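import Groth.Agent.GeomSpread.Chart
import Mathlib.AlgebraicGeometry.Morphisms.FiniteType
import Mathlib.AlgebraicGeometry.Geometrically.Irreducible

/-! # Geometrically irreducible fibres near the generic point -/

set_option autoImplicit false

universe u

open scoped TensorProduct
open AlgebraicGeometry CategoryTheory Limits

namespace Groth.Agent.GeomSpread

variable {X Y : Scheme.{u}}

/-- The geometric generic point of an affine open of an irreducible scheme. -/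
noncomputable def genPt {V : Y.Opens} (hV : IsAffineOpen V) [(nilradical Γ(Y, V)).IsPrime] :
    Spec (CommRingCat.of (GenClosure Γ(Y, V))) ⟶ Y :=
  Spec.map (CommRingCat.ofHom (algebraMap Γ(Y, V) (GenClosure Γ(Y, V)))) ≫ hV.fromSpec

theorem isPrime_nilradical_of_irreducible [IrreducibleSpace Y] {V : Y.Opens} (hV : IsAffineOpen V)
    (hne : (V : Set Y).Nonempty) : (nilradical Γ(Y, V)).IsPrime := by
  refine PrimeSpectrum.irreducibleSpace_iff_isPrime_nilradical.mp ?_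
  haveI : Nonempty ↥(Spec Γ(Y, V)) := by
    obtain ⟨y, hy⟩ := hne
    obtain ⟨t, -⟩ := hV.range_fromSpec.ge hy
    exact ⟨t⟩
  show IrreducibleSpace ↥(Spec Γ(Y, V))
  exact hV.fromSpec.isOpenEmbedding.irreducibleSpace

theorem genPt_apply [IrreducibleSpace Y] {V : Y.Opens} (hV : IsAffineOpen V)
    [(nilradical Γ(Y, V)).IsPrime] (t : ↥(Spec (CommRingCat.of (GenClosure Γ(Y, V))))) :
    genPt hV t = genericPoint Y := by
  let p : PrimeSpectrum Γ(Y, V) := ⟨nilradical Γ(Y, V), inferInstance⟩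
  have hp : Spec.map (CommRingCat.ofHom (algebraMap Γ(Y, V) (GenClosure Γ(Y, V)))) t = p := by
    refine PrimeSpectrum.ext ?_
    show t.asIdeal.comap (algebraMap Γ(Y, V) (GenClosure Γ(Y, V))) = nilradical Γ(Y, V)
    rw [(eq_bot_or_eq_top t.asIdeal).resolve_right t.isPrime.ne_top,
      IsScalarTower.algebraMap_eq Γ(Y, V) (Γ(Y, V) ⧸ nilradical Γ(Y, V)) (GenClosure Γ(Y, V)),
      ← Ideal.comap_comap, ← RingHom.ker_eq_comap_bot,
      (RingHom.injective_iff_ker_eq_bot _).mp injective_genClosure, ← RingHom.ker_eq_comap_bot,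
      Ideal.Quotient.algebraMap_eq, Ideal.mk_ker]
  show (Spec.map _ ≫ hV.fromSpec) t = _
  rw [Scheme.Hom.comp_apply, hp]
  have hmem : genericPoint Y ∈ (V : Set Y) :=
    (genericPoint_specializes (hV.fromSpec p)).mem_open V.2 (hV.range_fromSpec.le ⟨p, rfl⟩)
  obtain ⟨q, hq⟩ := hV.range_fromSpec.ge hmem
  refine ((?_ : hV.fromSpec p ⤳ genericPoint Y).antisymm (genericPoint_specializes _)).eq
  rw [← hq]
  exact ((PrimeSpectrum.le_iff_specializes p q).mp
    (show p.asIdeal ≤ q.asIdeal from nilradical_le_prime q.asIdeal)).map hV.fromSpec.continuous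

theorem exists_factor_affine {V : Y.Opens} (hV : IsAffineOpen V) {L : Type u} [Field L]
    (pt : Spec (CommRingCat.of L) ⟶ Y) (h : ∀ t, pt t ∈ V) :
    ∃ χ : Γ(Y, V) ⟶ CommRingCat.of L, pt = Spec.map χ ≫ hV.fromSpec := by
  have hr : Set.range pt ⊆ Set.range hV.fromSpec := by
    rw [hV.range_fromSpec]
    rintro _ ⟨t, rfl⟩
    exact h t
  obtain ⟨χ, hχ⟩ := Spec.map_surjective (IsOpenImmersion.lift hV.fromSpec pt hr)
  exact ⟨χ, by rw [hχ, IsOpenImmersion.lift_fac]⟩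

/-- The two cases for one affine open of the source. -/
theorem exists_spread_piece [IrreducibleSpace Y] (f : X ⟶ Y) [LocallyOfFiniteType f] {V : Y.Opens}
    (hV : IsAffineOpen V) [(nilradical Γ(Y, V)).IsPrime] {W : X.Opens} (hW : IsAffineOpen W)
    (e : W ≤ f ⁻¹ᵁ V) :
    (pullback.fst f (genPt hV) ⁻¹' (W : Set X) = ∅ → ∃ a : Γ(Y, V), a ∉ nilradical Γ(Y, V) ∧
      ∀ (L : Type u) [Field L] (χ : Γ(Y, V) ⟶ CommRingCat.of L), χ a ≠ 0 →
        pullback.fst f (Spec.map χ ≫ hV.fromSpec) ⁻¹' (W : Set X) = ∅) ∧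
    (IsIrreducible (pullback.fst f (genPt hV) ⁻¹' (W : Set X)) → ∃ a : Γ(Y, V), a ∉ nilradical Γ(Y, V) ∧
      ∀ (L : Type u) [Field L] (χ : Γ(Y, V) ⟶ CommRingCat.of L), χ a ≠ 0 →
        IsIrreducible (pullback.fst f (Spec.map χ ≫ hV.fromSpec) ⁻¹' (W : Set X))) := by
  letI := (f.appLE V W e).hom.toAlgebra
  haveI : Algebra.FiniteType Γ(Y, V) Γ(X, W) := f.finiteType_appLE hV hW e
  have key : ∀ (L : Type u) [Field L] (χ : Γ(Y, V) ⟶ CommRingCat.of L),
      letI := χ.hom.toAlgebra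
      (Subsingleton (L ⊗[Γ(Y, V)] Γ(X, W)) ↔
        pullback.fst f (Spec.map χ ≫ hV.fromSpec) ⁻¹' (W : Set X) = ∅) ∧
      (IrreducibleSpace (PrimeSpectrum (L ⊗[Γ(Y, V)] Γ(X, W))) ↔
        IsIrreducible (pullback.fst f (Spec.map χ ≫ hV.fromSpec) ⁻¹' (W : Set X))) := by
    intro L _ χ
    letI := χ.hom.toAlgebra
    obtain ⟨a, ha, hr⟩ := exists_chart f hV hW e χ
    rw [← hr]
    refine ⟨?_, ?_⟩
    · rw [Set.range_eq_empty_iff]
      refine ⟨fun h => ?_, fun h => ?_⟩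
      · exact ⟨fun t => (PrimeSpectrum.isPrime t).ne_top (Subsingleton.elim _ _)⟩
      · exact PrimeSpectrum.isEmpty_iff_subsingleton.mp h
    · refine ⟨fun h => ?_, fun h => ?_⟩
      · haveI := h
        rw [← Set.image_univ]
        exact (IrreducibleSpace.isIrreducible_univ (PrimeSpectrum (L ⊗[Γ(Y, V)] Γ(X, W)))).image a
          a.continuous.continuousOn
      · have h1 := h.preimage a.isOpenEmbedding (by rw [Set.inter_self]; exact h.nonempty)
        rw [Set.preimage_range] at h1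
        exact (irreducibleSpace_def _).mpr h1
  have hi : (CommRingCat.ofHom (algebraMap Γ(Y, V) (GenClosure Γ(Y, V)))).hom.toAlgebra =
      (inferInstance : Algebra Γ(Y, V) (GenClosure Γ(Y, V))) := Algebra.algebra_ext _ _ fun _ => rfl
  have k0 := key (GenClosure Γ(Y, V)) (CommRingCat.ofHom (algebraMap Γ(Y, V) (GenClosure Γ(Y, V))))
  constructor
  · intro h
    have h1 := Eq.mp (congrArg (fun i : Algebra Γ(Y, V) (GenClosure Γ(Y, V)) =>
      letI := i
      Subsingleton (GenClosure Γ(Y, V) ⊗[Γ(Y, V)] Γ(X, W))) hi) (k0.1.mpr h)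
    obtain ⟨a, ha, hs⟩ := exists_spread_subsingleton Γ(X, W) h1
    exact ⟨a, ha, fun L _ χ hχ => (key L χ).1.mp (@hs L _ χ.hom.toAlgebra hχ)⟩
  · intro h
    have h1 := Eq.mp (congrArg (fun i : Algebra Γ(Y, V) (GenClosure Γ(Y, V)) =>
      letI := i
      IrreducibleSpace (PrimeSpectrum (GenClosure Γ(Y, V) ⊗[Γ(Y, V)] Γ(X, W)))) hi) (k0.2.mpr h)
    obtain ⟨a, ha, hs⟩ := exists_spread_irreducible Γ(X, W) h1
    exact ⟨a, ha, fun L _ χ hχ => (key L χ).2.mp (@hs L _ χ.hom.toAlgebra hχ)⟩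

/-- A space covered by pairwise meeting irreducible opens is irreducible. -/
theorem irreducibleSpace_of_open_cover {T : Type*} [TopologicalSpace T] {ι : Type*}
    (U : ι → Set T) (hU : ∀ i, IsOpen (U i)) (hirr : ∀ i, IsIrreducible (U i)) (i₀ : ι)
    (hmeet : ∀ i j, (U i ∩ U j).Nonempty) (hcov : ∀ x, ∃ i, x ∈ U i) : IrreducibleSpace T := by
  haveI : PreirreducibleSpace T := by
    refine ⟨?_⟩
    rintro s t hs ht ⟨x, -, hx⟩ ⟨y, -, hy⟩
    obtain ⟨i, hi⟩ := hcov x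
    obtain ⟨j, hj⟩ := hcov y
    obtain ⟨z, hzi, hzs, hzj⟩ := (hirr i).isPreirreducible s (U j) hs (hU j) ⟨x, hi, hx⟩
      (by obtain ⟨w, hwi, hwj⟩ := hmeet i j; exact ⟨w, hwi, hwj⟩)
    obtain ⟨w, -, hws, hwt⟩ := (hirr j).isPreirreducible s t hs ht ⟨z, hzj, hzs⟩ ⟨y, hj, hy⟩
    exact ⟨w, trivial, hws, hwt⟩
  exact { toPreirreducibleSpace := inferInstance, toNonempty := ⟨(hirr i₀).nonempty.some⟩ }

end Groth.Agent.GeomSpread

namespace Groth.Agent.GeomSpread

variable {X Y : Scheme.{u}}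

/-- Geometric generic fibres irreducible implies geometrically irreducible fibres over a dense open
(EGA IV 9.7.7). -/
theorem exists_geometricallyIrreducible [IrreducibleSpace Y] (f : X ⟶ Y) [LocallyOfFiniteType f]
    [QuasiCompact f] (h : GeometricallyIrreducible (f.fiberToSpecResidueField (genericPoint Y))) :
    ∃ V : Y.Opens, (V : Set Y).Nonempty ∧ GeometricallyIrreducible (f ∣_ V) := by
  classical
  obtain ⟨V₀, hV₀, hηV₀, -⟩ := exists_isAffineOpen_mem_and_subset (x := genericPoint Y) (U := ⊤) trivial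
  haveI := isPrime_nilradical_of_irreducible hV₀ ⟨_, hηV₀⟩
  let gp := genPt hV₀
  have hgen : ∀ (c : Spec (CommRingCat.of (GenClosure Γ(Y, V₀))) ⟶ Y) (y : Y), (∀ t, c t = y) →
      ∃ ψ : Spec (CommRingCat.of (GenClosure Γ(Y, V₀))) ⟶ Spec (Y.residueField y),
        c = ψ ≫ Y.fromSpecResidueField y := by
    intro c y hc
    obtain rfl := hc (IsLocalRing.closedPoint (GenClosure Γ(Y, V₀)))
    exact ⟨_, ((Y.SpecToEquivOfField (GenClosure Γ(Y, V₀))).symm_apply_apply c).symm⟩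
  obtain ⟨ψ, hψ⟩ := hgen gp (genericPoint Y) (genPt_apply hV₀)
  haveI hP : IrreducibleSpace ↥(pullback f gp) := by
    let fk := f.fiberToSpecResidueField (genericPoint Y)
    have h1 : IrreducibleSpace ↥(pullback fk ψ) :=
      h.geometrically_irreducibleSpace ψ _ _ (IsPullback.of_hasPullback fk ψ)
    have h2 : IsPullback (pullback.fst fk ψ ≫ f.fiberι (genericPoint Y)) (pullback.snd fk ψ) f gp := by
      rw [hψ]
      exact (IsPullback.of_hasPullback fk ψ).paste_horiz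
        (IsPullback.of_hasPullback f (Y.fromSpecResidueField (genericPoint Y)))
    haveI := h1
    haveI : Nonempty ↥(pullback f gp) := ⟨h2.isoPullback.hom (Classical.arbitrary _)⟩
    exact h2.isoPullback.inv.isOpenEmbedding.irreducibleSpace
  obtain ⟨s, hs, hcov⟩ := isCompact_iff_finite_and_eq_biUnion_affineOpens.mp
    (f.isCompact_preimage (hV₀.isCompact))
  have hsle : ∀ U ∈ s, (U : X.Opens) ≤ f ⁻¹ᵁ V₀ := fun U hU => hcov.symm ▸ le_iSup₂_of_le U hU le_rfl
  let act : Finset X.affineOpens := hs.toFinset.filter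
    fun U => (pullback.fst f gp ⁻¹' ((U : X.Opens) : Set X)).Nonempty
  have hdead : ∀ U ∈ hs.toFinset, ∃ a : Γ(Y, V₀), a ∉ nilradical Γ(Y, V₀) ∧
      ∀ (L : Type u) [Field L] (χ : Γ(Y, V₀) ⟶ CommRingCat.of L), χ a ≠ 0 →
        (U ∉ act → pullback.fst f (Spec.map χ ≫ hV₀.fromSpec) ⁻¹' ((U : X.Opens) : Set X) = ∅) ∧
        (U ∈ act → IsIrreducible (pullback.fst f (Spec.map χ ≫ hV₀.fromSpec) ⁻¹' ((U : X.Opens) : Set X))) := by
    intro U hU
    have hp := exists_spread_piece f hV₀ U.2 (hsle U (hs.mem_toFinset.mp hU))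
    by_cases hne : (pullback.fst f gp ⁻¹' ((U : X.Opens) : Set X)).Nonempty
    · obtain ⟨a, ha, hspread⟩ := hp.2 ⟨hne, (PreirreducibleSpace.isPreirreducible_univ).open_subset
        ((U : X.Opens).2.preimage (pullback.fst f gp).continuous) (Set.subset_univ _)⟩
      exact ⟨a, ha, fun L _ χ hχ => ⟨fun hn => absurd (Finset.mem_filter.mpr ⟨hU, hne⟩) hn,
        fun _ => hspread L χ hχ⟩⟩
    · obtain ⟨a, ha, hspread⟩ := hp.1 (Set.not_nonempty_iff_eq_empty.mp hne)
      exact ⟨a, ha, fun L _ χ hχ => ⟨fun _ => hspread L χ hχ,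
        fun hn => absurd (Finset.mem_filter.mp hn).2 hne⟩⟩
  have hpair : ∀ p ∈ act ×ˢ act, ∃ a : Γ(Y, V₀), a ∉ nilradical Γ(Y, V₀) ∧
      ∀ (L : Type u) [Field L] (χ : Γ(Y, V₀) ⟶ CommRingCat.of L), χ a ≠ 0 →
        (pullback.fst f (Spec.map χ ≫ hV₀.fromSpec) ⁻¹' ((p.1 : X.Opens) : Set X) ∩
          pullback.fst f (Spec.map χ ≫ hV₀.fromSpec) ⁻¹' ((p.2 : X.Opens) : Set X)).Nonempty := by
    rintro ⟨U, U'⟩ hp
    obtain ⟨hU, hU'⟩ := Finset.mem_product.mp hp
    obtain ⟨z, -, hzU, hzU'⟩ := (PreirreducibleSpace.isPreirreducible_univ (X := ↥(pullback f gp))) _ _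
      ((U : X.Opens).2.preimage (pullback.fst f gp).continuous)
      ((U' : X.Opens).2.preimage (pullback.fst f gp).continuous)
      (by simpa using (Finset.mem_filter.mp hU).2) (by simpa using (Finset.mem_filter.mp hU').2)
    obtain ⟨W, hW, hzW, hWle⟩ := exists_isAffineOpen_mem_and_subset (x := pullback.fst f gp z)
      (U := (U : X.Opens) ⊓ (U' : X.Opens)) ⟨hzU, hzU'⟩
    obtain ⟨a, ha, hspread⟩ := (exists_spread_piece f hV₀ hW
      ((show W ≤ (U : X.Opens) from fun x hx => (hWle hx).1).trans (hsle U (hs.mem_toFinset.mp (Finset.mem_filter.mp hU).1)))).2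
      ⟨⟨z, hzW⟩, (PreirreducibleSpace.isPreirreducible_univ).open_subset
        (W.2.preimage (pullback.fst f gp).continuous) (Set.subset_univ _)⟩
    refine ⟨a, ha, fun L _ χ hχ => ?_⟩
    obtain ⟨w, hw⟩ := (hspread L χ hχ).nonempty
    exact ⟨w, (hWle hw).1, (hWle hw).2⟩
  choose! a ha hspread using hdead
  choose! b hb hmeet using hpair
  let c := (∏ U ∈ hs.toFinset, a U) * ∏ p ∈ act ×ˢ act, b p
  have hc : c ∉ nilradical Γ(Y, V₀) := by
    refine Ideal.IsPrime.mul_notMem inferInstance ?_ ?_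
    · rw [Ideal.IsPrime.prod_mem_iff]
      push Not
      exact ha
    · rw [Ideal.IsPrime.prod_mem_iff]
      push Not
      exact hb
  let p₀ : PrimeSpectrum Γ(Y, V₀) := ⟨nilradical Γ(Y, V₀), inferInstance⟩
  have hmem : ∀ t : PrimeSpectrum Γ(Y, V₀), hV₀.fromSpec t ∈ Y.basicOpen c ↔ c ∉ t.asIdeal := by
    intro t
    show t ∈ hV₀.fromSpec ⁻¹ᵁ Y.basicOpen c ↔ _
    rw [hV₀.fromSpec_preimage_basicOpen]
    rfl
  refine ⟨Y.basicOpen c, ⟨hV₀.fromSpec p₀, (hmem p₀).mpr hc⟩, ⟨fun L _ pt Z fst snd hZ => ?_⟩⟩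
  let V := Y.basicOpen c
  have hpaste : IsPullback (fst ≫ (f ⁻¹ᵁ V).ι) snd f (pt ≫ V.ι) :=
    hZ.paste_horiz (isPullback_morphismRestrict f V).flip
  obtain ⟨χ, hχ⟩ := exists_factor_affine hV₀ (pt ≫ V.ι) fun t =>
    Y.basicOpen_le c (show (pt ≫ V.ι) t ∈ V from (pt t).2)
  have hχc : χ c ≠ 0 := by
    intro h0
    have ht := (pt (IsLocalRing.closedPoint L)).2
    have e : (Spec.map χ ≫ hV₀.fromSpec) (IsLocalRing.closedPoint L) = (pt (IsLocalRing.closedPoint L)).1 := by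
      rw [← hχ]
      rfl
    rw [← e, Scheme.Hom.comp_apply] at ht
    refine (hmem _).mp ht ?_
    show χ c ∈ (IsLocalRing.maximalIdeal L)
    rw [h0]
    exact Submodule.zero_mem _
  rw [show c = (∏ U ∈ hs.toFinset, a U) * ∏ p ∈ act ×ˢ act, b p from rfl, map_mul, map_prod, map_prod] at hχc
  have hχa : ∀ U ∈ hs.toFinset, χ (a U) ≠ 0 := Finset.prod_ne_zero_iff.mp (left_ne_zero_of_mul hχc)
  have hχb : ∀ p ∈ act ×ˢ act, χ (b p) ≠ 0 := Finset.prod_ne_zero_iff.mp (right_ne_zero_of_mul hχc)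
  have hQ : IrreducibleSpace ↥(pullback f (Spec.map χ ≫ hV₀.fromSpec)) := by
    have hne : act.Nonempty := by
      obtain ⟨z⟩ := (inferInstance : Nonempty ↥(pullback f gp))
      have hz : f (pullback.fst f gp z) ∈ V₀ := by
        rw [← Scheme.Hom.comp_apply, pullback.condition, Scheme.Hom.comp_apply, genPt_apply hV₀]
        exact hηV₀
      obtain ⟨U, hU, hzU⟩ : ∃ U ∈ s, pullback.fst f gp z ∈ (U : X.Opens) := by
        have : pullback.fst f gp z ∈ f ⁻¹ᵁ V₀ := hz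
        rw [hcov] at this
        simpa using this
      exact ⟨U, Finset.mem_filter.mpr ⟨hs.mem_toFinset.mpr hU, z, hzU⟩⟩
    obtain ⟨U₀, hU₀⟩ := hne
    refine irreducibleSpace_of_open_cover
      (fun U : act => pullback.fst f (Spec.map χ ≫ hV₀.fromSpec) ⁻¹' ((U.1 : X.Opens) : Set X))
      (fun U => (U.1 : X.Opens).2.preimage (pullback.fst f _).continuous)
      (fun U => (hspread U.1 (Finset.mem_filter.mp U.2).1 L χ (hχa _ (Finset.mem_filter.mp U.2).1)).2 U.2)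
      ⟨U₀, hU₀⟩ (fun U U' => hmeet (U.1, U'.1) (Finset.mem_product.mpr ⟨U.2, U'.2⟩) L χ
        (hχb _ (Finset.mem_product.mpr ⟨U.2, U'.2⟩))) (fun z => ?_)
    have hz : pullback.fst f (Spec.map χ ≫ hV₀.fromSpec) z ∈ f ⁻¹ᵁ V₀ := by
      show f (pullback.fst f _ z) ∈ V₀
      rw [← Scheme.Hom.comp_apply, pullback.condition, Scheme.Hom.comp_apply, Scheme.Hom.comp_apply]
      exact hV₀.range_fromSpec.le ⟨_, rfl⟩
    rw [hcov] at hz
    obtain ⟨U, hU, hzU⟩ : ∃ U ∈ s, pullback.fst f (Spec.map χ ≫ hV₀.fromSpec) z ∈ (U : X.Opens) := by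
      simpa using hz
    by_cases hact : U ∈ act
    · exact ⟨⟨U, hact⟩, hzU⟩
    · have := (hspread U (hs.mem_toFinset.mpr hU) L χ (hχa _ (hs.mem_toFinset.mpr hU))).1 hact
      exact absurd (show z ∈ (∅ : Set _) from this ▸ hzU) id
  rw [hχ] at hpaste
  haveI : Nonempty ↥Z := ⟨hpaste.isoPullback.inv hQ.toNonempty.some⟩
  exact hpaste.isoPullback.hom.isOpenEmbedding.irreducibleSpace

end Groth.Agent.GeomSpread
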