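import Groth.Agent.GeomSpread.Main
import Mathlib.AlgebraicGeometry.Pullbacks
import Mathlib.AlgebraicGeometry.AffineScheme
import Mathlib.AlgebraicGeometry.PullbackCarrier

/-! # Spreading over an irreducible affine base, and charts of base changes to fields -/

set_option autoImplicit false

universe u

open scoped TensorProduct
open AlgebraicGeometry CategoryTheory Limits

namespace Groth.Agent.GeomSpread

variable (R₀ : Type u) [CommRing R₀]

/-- An algebraic closure of the residue field at the generic point. -/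
abbrev GenClosure [(nilradical R₀).IsPrime] : Type u := AlgebraicClosure (FractionRing (R₀ ⧸ nilradical R₀))

variable {R₀} [hp : (nilradical R₀).IsPrime]

theorem exists_algebra_quot (L : Type u) [Field L] [Algebra R₀ L] :
    ∃ _ : Algebra (R₀ ⧸ nilradical R₀) L, IsScalarTower R₀ (R₀ ⧸ nilradical R₀) L := by
  letI := (Ideal.Quotient.lift (nilradical R₀) (algebraMap R₀ L) fun r hr =>
    (IsNilpotent.map (mem_nilradical.mp hr) (algebraMap R₀ L)).eq_zero).toAlgebra
  exact ⟨inferInstance, IsScalarTower.of_algebraMap_eq fun _ => rfl⟩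

theorem injective_genClosure : Function.Injective (algebraMap (R₀ ⧸ nilradical R₀) (GenClosure R₀)) := by
  rw [IsScalarTower.algebraMap_eq (R₀ ⧸ nilradical R₀) (FractionRing (R₀ ⧸ nilradical R₀)) (GenClosure R₀)]
  exact (algebraMap (FractionRing (R₀ ⧸ nilradical R₀)) (GenClosure R₀)).injective.comp
    (IsFractionRing.injective _ _)

/-- Irreducibility of the geometric generic fibre spreads out. -/
theorem exists_spread_irreducible (B : Type u) [CommRing B] [Algebra R₀ B] [Algebra.FiniteType R₀ B]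
    (h : IrreducibleSpace (PrimeSpectrum (GenClosure R₀ ⊗[R₀] B))) :
    ∃ a : R₀, a ∉ nilradical R₀ ∧ ∀ (L : Type u) [Field L] [Algebra R₀ L], algebraMap R₀ L a ≠ 0 →
      IrreducibleSpace (PrimeSpectrum (L ⊗[R₀] B)) := by
  let R := R₀ ⧸ nilradical R₀
  haveI : IsDomain R := Ideal.Quotient.isDomain _
  haveI : Algebra.IsAlgebraic R (GenClosure R₀) :=
    (IsFractionRing.comap_isAlgebraic_iff (A := R) (K := FractionRing R) (C := GenClosure R₀)).mpr inferInstance
  have e : ∀ (L : Type u) [Field L] [Algebra R₀ L] [Algebra R L] [IsScalarTower R₀ R L],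
      IrreducibleSpace (PrimeSpectrum (L ⊗[R₀] B)) ↔
        IrreducibleSpace (PrimeSpectrum (L ⊗[R] (R ⊗[R₀] B))) := fun L _ _ _ _ => by
    let c := Algebra.TensorProduct.cancelBaseChange R₀ R L L B
    constructor <;> intro _
    · exact irreducibleSpace_of_factor (T := L ⊗[R] (R ⊗[R₀] B)) (T' := L ⊗[R₀] B) c.toAlgHom.toRingHom
        fun Q hQ => ⟨⟨Q.comap c.symm.toAlgHom.toRingHom, Ideal.IsPrime.comap _⟩, by
          ext z
          show c.symm (c z) ∈ Q ↔ _
          rw [AlgEquiv.symm_apply_apply]⟩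
    · exact irreducibleSpace_of_factor (T := L ⊗[R₀] B) (T' := L ⊗[R] (R ⊗[R₀] B)) c.symm.toAlgHom.toRingHom
        fun Q hQ => ⟨⟨Q.comap c.toAlgHom.toRingHom, Ideal.IsPrime.comap _⟩, by
          ext z
          show c (c.symm z) ∈ Q ↔ _
          rw [AlgEquiv.apply_symm_apply]⟩
  obtain ⟨f, hf, hspread⟩ := exists_irreducible_fibres (R := R) (R ⊗[R₀] B) (GenClosure R₀)
    injective_genClosure ((e _).mp h)
  obtain ⟨a, rfl⟩ := Ideal.Quotient.mk_surjective f
  refine ⟨a, fun ha => hf (Ideal.Quotient.eq_zero_iff_mem.mpr ha), fun L _ _ hL => ?_⟩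
  obtain ⟨_, _⟩ := exists_algebra_quot (R₀ := R₀) L
  rw [e L]
  exact hspread L (by rwa [← Ideal.Quotient.algebraMap_eq, ← IsScalarTower.algebraMap_apply])

/-- Emptiness of the generic fibre spreads out. -/
theorem exists_spread_subsingleton (B : Type u) [CommRing B] [Algebra R₀ B]
    (h : Subsingleton (GenClosure R₀ ⊗[R₀] B)) :
    ∃ a : R₀, a ∉ nilradical R₀ ∧ ∀ (L : Type u) [Field L] [Algebra R₀ L], algebraMap R₀ L a ≠ 0 →
      Subsingleton (L ⊗[R₀] B) := by
  let R := R₀ ⧸ nilradical R₀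
  haveI : IsDomain R := Ideal.Quotient.isDomain _
  let c := Algebra.TensorProduct.cancelBaseChange R₀ R (GenClosure R₀) (GenClosure R₀) B
  have h1 : (1 : GenClosure R₀) ⊗ₜ[R] (1 : R ⊗[R₀] B) = 0 := by
    haveI := c.toEquiv.subsingleton
    exact Subsingleton.elim _ _
  obtain ⟨f, hf, hf1⟩ := exists_smul_eq_zero injective_genClosure h1
  obtain ⟨a, rfl⟩ := Ideal.Quotient.mk_surjective f
  refine ⟨a, fun ha => hf (Ideal.Quotient.eq_zero_iff_mem.mpr ha), fun L _ _ hL => ?_⟩
  obtain ⟨_, _⟩ := exists_algebra_quot (R₀ := R₀) L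
  have h3 : algebraMap R L (Ideal.Quotient.mk _ a) • (1 : L ⊗[R] (R ⊗[R₀] B)) = 0 := by
    rw [algebraMap_smul, Algebra.TensorProduct.one_def, ← TensorProduct.tmul_smul, hf1, TensorProduct.tmul_zero]
  have h4 : (1 : L ⊗[R] (R ⊗[R₀] B)) = 0 := by
    have hu : algebraMap R L (Ideal.Quotient.mk _ a) ≠ 0 := by
      rwa [← Ideal.Quotient.algebraMap_eq, ← IsScalarTower.algebraMap_apply]
    exact (smul_eq_zero_iff_right hu).mp h3
  have h5 : ∀ x : L ⊗[R] (R ⊗[R₀] B), x = 0 := fun x =>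
    (mul_one x).symm.trans ((congrArg (LinearMap.mulLeft L x) h4).trans (map_zero (LinearMap.mulLeft L x)))
  haveI : Subsingleton (L ⊗[R] (R ⊗[R₀] B)) := ⟨fun x y => (h5 x).trans (h5 y).symm⟩
  exact (Algebra.TensorProduct.cancelBaseChange R₀ R L L B).symm.toEquiv.subsingleton

omit hp in
/-- The preimage of an affine open in a base change to a field, as a spectrum. -/
theorem exists_chart {X Y : Scheme.{u}} (f : X ⟶ Y) {V : Y.Opens} (hV : IsAffineOpen V) {W : X.Opens}
    (hW : IsAffineOpen W) (e : W ≤ f ⁻¹ᵁ V) {L : Type u} [Field L] (χ : Γ(Y, V) ⟶ CommRingCat.of L) :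
    letI := χ.hom.toAlgebra
    letI := (f.appLE V W e).hom.toAlgebra
    ∃ a : Spec (CommRingCat.of (L ⊗[Γ(Y, V)] Γ(X, W))) ⟶ pullback f (Spec.map χ ≫ hV.fromSpec),
      IsOpenImmersion a ∧
        Set.range a = pullback.fst f (Spec.map χ ≫ hV.fromSpec) ⁻¹' (W : Set X) := by
  letI := χ.hom.toAlgebra
  letI := (f.appLE V W e).hom.toAlgebra
  let R := Γ(Y, V)
  let q := Spec.map (CommRingCat.ofHom (R := Γ(X, W)) (S := L ⊗[R] Γ(X, W))
    (Algebra.TensorProduct.includeRight : Γ(X, W) →ₐ[R] L ⊗[R] Γ(X, W)).toRingHom)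
  let p := Spec.map (CommRingCat.ofHom (R := L) (S := L ⊗[R] Γ(X, W)) Algebra.TensorProduct.includeLeftRingHom)
  have h₁ : IsPullback q p (Spec.map (f.appLE V W e)) (Spec.map χ) := by
    refine IsPullback.of_iso_pullback ⟨?_⟩ ((pullbackSpecIso R L Γ(X, W)).symm ≪≫ pullbackSymmetry _ _) ?_ ?_
    · rw [← Spec.map_comp, ← Spec.map_comp]
      congr 1
      ext r
      show (Algebra.TensorProduct.includeRight : Γ(X, W) →ₐ[R] _) (algebraMap R Γ(X, W) r) =
        algebraMap L (L ⊗[R] Γ(X, W)) (algebraMap R L r)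
      rw [AlgHom.commutes, ← IsScalarTower.algebraMap_apply]
    · rw [Iso.trans_hom, Category.assoc]
      exact (congrArg (_ ≫ ·) (pullbackSymmetry_hom_comp_fst _ _)).trans (pullbackSpecIso_inv_snd R L Γ(X, W))
    · rw [Iso.trans_hom, Category.assoc]
      exact (congrArg (_ ≫ ·) (pullbackSymmetry_hom_comp_snd _ _)).trans (pullbackSpecIso_inv_fst R L Γ(X, W))
  have h₂ : IsPullback q p (hW.fromSpec ≫ f) (Spec.map χ ≫ hV.fromSpec) := by
    rw [← IsAffineOpen.SpecMap_appLE_fromSpec f hV hW e]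
    have h₀ : IsPullback (Spec.map χ) (𝟙 _) hV.fromSpec (Spec.map χ ≫ hV.fromSpec) :=
      IsPullback.of_vert_isIso_mono ⟨(Category.id_comp _).symm⟩
    simpa using h₁.paste_vert h₀
  let g := Spec.map χ ≫ hV.fromSpec
  let a := pullback.lift (f := f) (g := g) (q ≫ hW.fromSpec) p (by rw [Category.assoc]; exact h₂.w)
  have h₃ : IsPullback q a hW.fromSpec (pullback.fst f g) := by
    refine IsPullback.of_bot ?_ (pullback.lift_fst _ _ _).symm (IsPullback.of_hasPullback f g)
    rw [pullback.lift_snd]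
    exact h₂
  refine ⟨a, MorphismProperty.of_isPullback (P := @IsOpenImmersion) h₃ inferInstance, ?_⟩
  ext z
  constructor
  · rintro ⟨t, rfl⟩
    show pullback.fst f g (a t) ∈ (W : Set X)
    rw [← hW.range_fromSpec]
    exact ⟨q t, congrArg (fun m => (m : _ ⟶ X) t) h₃.w⟩
  · intro hz
    obtain ⟨w, hw⟩ := hW.range_fromSpec.ge hz
    obtain ⟨t, -, ht⟩ := Scheme.exists_preimage_of_isPullback h₃ w z hw
    exact ⟨t, ht⟩

end Groth.Agent.GeomSpread
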