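import Groth.Agent.GeomSpread.Regular
import Mathlib.RingTheory.Spectrum.Prime.Topology
import Mathlib.Algebra.MvPolynomial.Basic
import Mathlib.RingTheory.Polynomial.UniqueFactorization
import Mathlib.RingTheory.TensorProduct.Maps
import Mathlib.RingTheory.Nilpotent.Lemmas

/-! # Fibres of a model of a hypersurface are irreducible over a dense open -/

set_option autoImplicit false

universe u

open scoped TensorProduct
open MvPolynomial

namespace Groth.Agent.GeomSpread

/-- A point `w` with `g(w) ≠ 0` on the hypersurface gives a point of the model. -/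
theorem exists_model_hom {R : Type u} [CommRing R] {L₀ : Type u} [Field L₀] [Algebra R L₀]
    {B : Type u} [CommRing B] [Algebra R B] (j : B →ₐ[R] L₀) (hj : Function.Injective j)
    {ι : Type u} (β : ι → B) (hβ : Function.Surjective (aeval β : MvPolynomial ι R →ₐ[R] B))
    {σ : Type u} (v : σ → L₀) (F g : MvPolynomial σ R)
    (hker : ∀ q : MvPolynomial σ R, aeval v q = 0 → F ∣ q) (hg : aeval v g ≠ 0)
    (r : ι → MvPolynomial σ R) (hr : ∀ i, j (β i) * aeval v g = aeval v (r i))
    {M : Type u} [Field M] [Algebra R M] (w : σ → M) (hwF : aeval w F = 0) (hwg : aeval w g ≠ 0) :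
    ∃ ψ : B →ₐ[R] M, ∀ i, ψ (β i) * aeval w g = aeval w (r i) := by
  let Pg := Localization.Away g
  have hu : ∀ {N : Type u} [Field N] [Algebra R N] (z : σ → N), aeval z g ≠ 0 →
      ∀ y : Submonoid.powers g, IsUnit ((aeval z : MvPolynomial σ R →ₐ[R] N) y) := by
    intro N _ _ z hz y
    obtain ⟨_, n, rfl⟩ := y
    show IsUnit (aeval z (g ^ n))
    rw [map_pow]
    exact (IsUnit.mk0 _ hz).pow n
  let eL : Pg →ₐ[R] L₀ := IsLocalization.liftAlgHom (M := Submonoid.powers g) (f := aeval v) (hu v hg)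
  let eM : Pg →ₐ[R] M := IsLocalization.liftAlgHom (M := Submonoid.powers g) (f := aeval w) (hu w hwg)
  have heL : ∀ q, eL (algebraMap _ Pg q) = aeval v q := fun q =>
    IsLocalization.lift_eq (g := (aeval v : MvPolynomial σ R →ₐ[R] L₀).toRingHom) (hu v hg) q
  have heM : ∀ q, eM (algebraMap _ Pg q) = aeval w q := fun q =>
    IsLocalization.lift_eq (g := (aeval w : MvPolynomial σ R →ₐ[R] M).toRingHom) (hu w hwg) q
  let g' : Submonoid.powers g := ⟨g, Submonoid.mem_powers g⟩
  let Θ : MvPolynomial ι R →ₐ[R] Pg := aeval fun i => IsLocalization.mk' Pg (r i) g'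
  have hΘX : ∀ i, Θ (X i) * algebraMap _ Pg g = algebraMap _ Pg (r i) := fun i => by
    show aeval _ (X i) * _ = _
    rw [aeval_X]
    exact IsLocalization.mk'_spec Pg (r i) g'
  have hcomp : eL.comp Θ = j.comp (aeval β) := by
    refine MvPolynomial.algHom_ext fun i => mul_right_cancel₀ hg ?_
    show eL (Θ (X i)) * _ = j (aeval β (X i)) * _
    rw [show aeval β (X i) = β i from aeval_X _ i, hr, ← heL g, ← heL (r i), ← map_mul, hΘX]
  have hker' : ∀ p, aeval β p = 0 → eM (Θ p) = 0 := by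
    intro p hp
    have h1 : eL (Θ p) = 0 := by
      rw [← AlgHom.comp_apply, hcomp, AlgHom.comp_apply, hp, map_zero]
    obtain ⟨⟨q, s⟩, hs⟩ := IsLocalization.surj (Submonoid.powers g) (Θ p)
    have h2 : aeval v q = 0 := by rw [← heL, ← hs, map_mul, h1, zero_mul]
    have h3 : aeval w q = 0 := by
      obtain ⟨c, hc⟩ := hker q h2
      rw [hc, map_mul, hwF, zero_mul]
    have h4 : eM (Θ p) * aeval w (s : MvPolynomial σ R) = 0 := by
      rw [← heM, ← map_mul, hs, heM, h3]
    exact (mul_eq_zero.mp h4).resolve_right (hu w hwg s).ne_zero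
  let π : MvPolynomial ι R →ₐ[R] B := aeval β
  let ψ : B →ₐ[R] M := (Ideal.Quotient.liftₐ (RingHom.ker π) (eM.comp Θ) fun p hp => hker' p hp).comp
    (Ideal.quotientKerAlgEquivOfSurjective hβ).symm.toAlgHom
  refine ⟨ψ, fun i => ?_⟩
  have hψ : ∀ p, ψ (π p) = eM (Θ p) := fun p => by
    show (Ideal.Quotient.liftₐ (RingHom.ker π) (eM.comp Θ) fun p hp => hker' p hp)
      ((Ideal.quotientKerAlgEquivOfSurjective hβ).symm (π p)) = _
    rw [show (Ideal.quotientKerAlgEquivOfSurjective hβ).symm (π p) = Ideal.Quotient.mk _ p from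
      (AlgEquiv.symm_apply_eq _).mpr rfl]
    rfl
  rw [show β i = π (X i) from (aeval_X β i).symm, hψ, ← heM g, ← heM (r i), ← map_mul, hΘX]

theorem isPrime_nilradical_tensor {R : Type u} [CommRing R] {L₀ : Type u} [Field L₀] [Algebra R L₀]
    {B : Type u} [CommRing B] [Algebra R B] (j : B →ₐ[R] L₀) (hj : Function.Injective j)
    {ι : Type u} (β : ι → B) (hβ : Function.Surjective (aeval β : MvPolynomial ι R →ₐ[R] B))
    {σ : Type u} (v : σ → L₀) (F g : MvPolynomial σ R) (hF0 : aeval v F = 0)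
    (hker : ∀ q : MvPolynomial σ R, aeval v q = 0 → F ∣ q) (hg : aeval v g ≠ 0)
    (r : ι → MvPolynomial σ R) (hr : ∀ i, j (β i) * aeval v g = aeval v (r i))
    (h : B) (hh : h ≠ 0) (hv : ∀ o, ∃ (a : B) (n : ℕ), v o * j h ^ n = j a)
    (hginv : ∃ (a : B) (n : ℕ), j h ^ n = aeval v g * j a)
    (L : Type u) [Field L] [Algebra R L] (hFL : Irreducible (F.map (algebraMap R L)))
    [Nontrivial (L ⊗[R] B)] (hreg : Function.Injective ((LinearMap.mulLeft R h).lTensor L)) :
    IrreducibleSpace (PrimeSpectrum (L ⊗[R] B)) := by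
  classical
  let hT : L ⊗[R] B := 1 ⊗ₜ h
  have hreg' : ∀ z : L ⊗[R] B, hT * z = 0 → z = 0 := by
    have e : ∀ z : L ⊗[R] B, hT * z = (LinearMap.mulLeft R h).lTensor L z := by
      intro z
      induction z using TensorProduct.induction_on with
      | zero => simp
      | tmul a b => simp [hT]
      | add a b ha hb => rw [mul_add, map_add, ha, hb]
    exact fun z hz => hreg (by rw [← e, hz, map_zero])
  have hpow : ∀ (n : ℕ) (z : L ⊗[R] B), hT ^ n * z = 0 → z = 0 := by
    intro n
    induction n with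
    | zero => intro z hz; rwa [pow_zero, one_mul] at hz
    | succ n ih => intro z hz; exact ih z (hreg' _ (by rw [← mul_assoc, ← pow_succ']; exact hz))
  let Bh := Localization.Away h
  have hjh : j h ≠ 0 := (map_ne_zero_iff j hj).mpr hh
  have huj : ∀ y : Submonoid.powers h, IsUnit (j y) := by
    rintro ⟨_, n, rfl⟩
    show IsUnit (j (h ^ n))
    rw [map_pow]
    exact (IsUnit.mk0 _ hjh).pow n
  let jh : Bh →ₐ[R] L₀ := IsLocalization.liftAlgHom (M := Submonoid.powers h) (f := j) huj
  have hjh' : ∀ b, jh (algebraMap _ Bh b) = j b := fun b =>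
    IsLocalization.lift_eq (g := j.toRingHom) huj b
  have hjinj : Function.Injective jh := (injective_iff_map_eq_zero jh).mpr fun z hz => by
    obtain ⟨⟨b, s⟩, hs⟩ := IsLocalization.surj (Submonoid.powers h) z
    have h1 : j b = 0 := by rw [← hjh', ← hs, map_mul, hz, zero_mul]
    rw [map_eq_zero_iff j hj] at h1
    rw [h1, map_zero] at hs
    exact (IsLocalization.map_units Bh s).mul_left_eq_zero.mp hs
  choose a n ha using hv
  let vh : σ → Bh := fun o => IsLocalization.mk' Bh (a o) (⟨h ^ n o, n o, rfl⟩ : Submonoid.powers h)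
  have hvh : ∀ o, jh (vh o) = v o := fun o => by
    have h1 := congrArg jh (IsLocalization.mk'_spec Bh (a o) (⟨h ^ n o, n o, rfl⟩ : Submonoid.powers h))
    rw [map_mul, hjh', hjh', map_pow, ← ha] at h1
    exact mul_right_cancel₀ (pow_ne_zero _ hjh) h1
  have hev : ∀ q : MvPolynomial σ R, jh (aeval vh q) = aeval v q := fun q => by
    rw [← AlgHom.comp_apply, MvPolynomial.comp_aeval]
    simp only [hvh]
  obtain ⟨ag, ng, hag⟩ := hginv
  -- a point avoiding `h`
  have key : ∀ Q : Ideal (L ⊗[R] B), Q.IsPrime → hT ∉ Q →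
      ∃ (Fk : Type u) (_ : Field Fk) (_ : Algebra L Fk) (φ : L ⊗[R] B →ₐ[L] Fk) (w : σ → Fk),
        RingHom.ker φ = Q ∧ aeval w (F.map (algebraMap R L)) = 0 ∧
        aeval w (g.map (algebraMap R L)) ≠ 0 ∧
        ∀ i, φ (1 ⊗ₜ β i) * aeval w (g.map (algebraMap R L)) = aeval w ((r i).map (algebraMap R L)) := by
    intro Q hQ hhQ
    haveI : IsDomain ((L ⊗[R] B) ⧸ Q) := Ideal.Quotient.isDomain Q
    let Fk := FractionRing ((L ⊗[R] B) ⧸ Q)
    let φ : L ⊗[R] B →ₐ[L] Fk :=
      (IsScalarTower.toAlgHom L ((L ⊗[R] B) ⧸ Q) Fk).comp (Ideal.Quotient.mkₐ L Q)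
    have hφ : RingHom.ker φ = Q := by
      ext z
      rw [RingHom.mem_ker]
      show algebraMap _ Fk (Ideal.Quotient.mk Q z) = 0 ↔ _
      rw [map_eq_zero_iff _ (IsFractionRing.injective _ _), Ideal.Quotient.eq_zero_iff_mem]
    let φB : B →ₐ[R] Fk := (φ.restrictScalars R).comp Algebra.TensorProduct.includeRight
    have hφh : φB h ≠ 0 := fun h0 => hhQ (hφ ▸ RingHom.mem_ker.mpr h0)
    have huφ : ∀ y : Submonoid.powers h, IsUnit (φB y) := by
      rintro ⟨_, k, rfl⟩
      show IsUnit (φB (h ^ k))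
      rw [map_pow]
      exact (IsUnit.mk0 _ hφh).pow k
    let χ : Bh →ₐ[R] Fk := IsLocalization.liftAlgHom (M := Submonoid.powers h) (f := φB) huφ
    have hχ : ∀ b, χ (algebraMap _ Bh b) = φB b := fun b =>
      IsLocalization.lift_eq (g := φB.toRingHom) huφ b
    refine ⟨Fk, inferInstance, inferInstance, φ, fun o => χ (vh o), hφ, ?_, ?_, fun i => ?_⟩
    all_goals simp only [MvPolynomial.aeval_map_algebraMap]
    all_goals rw [show (aeval (fun o => χ (vh o)) : MvPolynomial σ R →ₐ[R] Fk) = χ.comp (aeval vh) from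
      (MvPolynomial.comp_aeval _ _).symm]
    all_goals simp only [AlgHom.comp_apply]
    · rw [show aeval vh F = 0 from hjinj (by rw [hev, hF0, map_zero]), map_zero]
    · have h1 : algebraMap B Bh (h ^ ng) = aeval vh g * algebraMap B Bh ag :=
        hjinj (by rw [map_mul, hjh', hjh', hev, map_pow, hag])
      intro h0
      have h2 := congrArg χ h1
      rw [map_mul, h0, zero_mul, hχ, map_pow] at h2
      exact pow_ne_zero _ hφh h2
    · have h1 : algebraMap B Bh (β i) * aeval vh g = aeval vh (r i) :=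
        hjinj (by rw [map_mul, hjh', hev, hev, hr])
      show φB (β i) * _ = _
      rw [← hχ, ← map_mul, h1]
  obtain ⟨Q₀, hQ₀, hhQ₀⟩ : ∃ Q : Ideal (L ⊗[R] B), Q.IsPrime ∧ hT ∉ Q := by
    by_contra! hc
    obtain ⟨k, hk⟩ := nilpotent_iff_mem_prime.mpr fun Q hQ => hc Q hQ
    exact one_ne_zero (hpow k 1 (by rw [hk, zero_mul]))
  let FL := F.map (algebraMap R L)
  haveI hP : (Ideal.span {FL}).IsPrime :=
    (Ideal.span_singleton_prime hFL.ne_zero).mpr hFL.prime
  haveI : IsDomain (MvPolynomial σ L ⧸ Ideal.span {FL}) := Ideal.Quotient.isDomain _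
  let M := FractionRing (MvPolynomial σ L ⧸ Ideal.span {FL})
  let ev : MvPolynomial σ L →ₐ[L] M :=
    (IsScalarTower.toAlgHom L _ M).comp (Ideal.Quotient.mkₐ L (Ideal.span {FL}))
  let w₀ : σ → M := fun o => ev (X o)
  have hev0 : ∀ q, aeval w₀ q = ev q := fun q => by
    rw [show (aeval w₀ : MvPolynomial σ L →ₐ[L] M) = ev from (MvPolynomial.aeval_unique ev).symm]
  have hevker : ∀ q, aeval w₀ q = 0 → FL ∣ q := fun q hq => by
    rw [hev0] at hq
    have h1 : Ideal.Quotient.mk (Ideal.span {FL}) q = 0 :=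
      IsFractionRing.injective _ M (by rw [map_zero]; exact hq)
    rwa [Ideal.Quotient.eq_zero_iff_mem, Ideal.mem_span_singleton] at h1
  have hwF : aeval w₀ F = 0 := by
    rw [← MvPolynomial.aeval_map_algebraMap L, hev0]
    show algebraMap _ M (Ideal.Quotient.mk (Ideal.span {FL}) FL) = 0
    rw [Ideal.Quotient.eq_zero_iff_mem.mpr (Ideal.mem_span_singleton_self FL), map_zero]
  have hwg : aeval w₀ g ≠ 0 := by
    intro h0
    obtain ⟨Fk, _, _, φ, w, -, hwF', hwg', -⟩ := key Q₀ hQ₀ hhQ₀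
    obtain ⟨c, hc⟩ := hevker (g.map (algebraMap R L)) (by rw [MvPolynomial.aeval_map_algebraMap]; exact h0)
    exact hwg' (by rw [hc, map_mul, hwF', zero_mul])
  obtain ⟨ψ, hψ⟩ := exists_model_hom j hj β hβ v F g hker hg r hr w₀ hwF hwg
  let Ψ : L ⊗[R] B →ₐ[L] M := Algebra.TensorProduct.lift (Algebra.ofId L M) ψ fun _ _ => Commute.all _ _
  let π : MvPolynomial ι L →ₐ[L] L ⊗[R] B := aeval fun i => (1 : L) ⊗ₜ β i
  have hπ : Function.Surjective π := by
    intro z
    induction z using TensorProduct.induction_on with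
    | zero => exact ⟨0, map_zero _⟩
    | tmul l b =>
      obtain ⟨p, rfl⟩ := hβ b
      refine ⟨C l * p.map (algebraMap R L), ?_⟩
      rw [map_mul, MvPolynomial.aeval_C]
      show algebraMap L (L ⊗[R] B) l * aeval (fun i => (1 : L) ⊗ₜ β i) (p.map (algebraMap R L)) = _
      rw [MvPolynomial.aeval_map_algebraMap]
      have : aeval (fun i => (1 : L) ⊗ₜ[R] β i) p =
          (Algebra.TensorProduct.includeRight : B →ₐ[R] L ⊗[R] B) (aeval β p) := by
        rw [← AlgHom.comp_apply, MvPolynomial.comp_aeval]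
        rfl
      rw [this]
      simp [Algebra.TensorProduct.algebraMap_apply]
    | add x y hx hy =>
      obtain ⟨p, rfl⟩ := hx
      obtain ⟨p', rfl⟩ := hy
      exact ⟨p + p', map_add _ _ _⟩
  have hle : ∀ z, Ψ z = 0 → IsNilpotent z := by
    intro z hz
    suffices IsNilpotent (hT * z) by
      obtain ⟨k, hk⟩ := this
      exact ⟨k, hpow k _ (by rw [← mul_pow]; exact hk)⟩
    refine nilpotent_iff_mem_prime.mpr fun Q hQ => ?_
    by_cases hhQ : hT ∈ Q
    · exact Ideal.mul_mem_right _ _ hhQ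
    refine Ideal.mul_mem_left _ _ ?_
    obtain ⟨Fk, _, _, φ, w, hφ, hwF', hwg', hφr⟩ := key Q hQ hhQ
    obtain ⟨p, rfl⟩ := hπ z
    rw [← hφ, RingHom.mem_ker]
    let Pg := Localization.Away (g.map (algebraMap R L))
    let g' : Submonoid.powers (g.map (algebraMap R L)) := ⟨_, Submonoid.mem_powers _⟩
    let Θ : MvPolynomial ι L →ₐ[L] Pg :=
      aeval fun i => IsLocalization.mk' Pg ((r i).map (algebraMap R L)) g'
    obtain ⟨⟨q, ⟨_, k, rfl⟩⟩, hs⟩ :=
      IsLocalization.surj (Submonoid.powers (g.map (algebraMap R L))) (Θ p)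
    have hgen : ∀ {N : Type u} [Field N] [Algebra L N] (η : L ⊗[R] B →ₐ[L] N) (z : σ → N),
        aeval z (g.map (algebraMap R L)) ≠ 0 →
        (∀ i, η (1 ⊗ₜ β i) * aeval z (g.map (algebraMap R L)) = aeval z ((r i).map (algebraMap R L))) →
        η (π p) * aeval z (g.map (algebraMap R L)) ^ k = aeval z q := by
      intro N _ _ η z hz hzr
      have hu : ∀ y : Submonoid.powers (g.map (algebraMap R L)),
          IsUnit ((aeval z : MvPolynomial σ L →ₐ[L] N) y) := by
        rintro ⟨_, m, rfl⟩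
        show IsUnit (aeval z (_ ^ m))
        rw [map_pow]
        exact (IsUnit.mk0 _ hz).pow m
      let e : Pg →ₐ[L] N :=
        IsLocalization.liftAlgHom (M := Submonoid.powers (g.map (algebraMap R L))) (f := aeval z) hu
      have he : ∀ q, e (algebraMap _ Pg q) = aeval z q := fun q =>
        IsLocalization.lift_eq (g := (aeval z : MvPolynomial σ L →ₐ[L] N).toRingHom) hu q
      have hcomp : η.comp π = e.comp Θ := by
        refine MvPolynomial.algHom_ext fun i => mul_right_cancel₀ hz ?_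
        show η (π (X i)) * _ = e (Θ (X i)) * _
        rw [show π (X i) = 1 ⊗ₜ β i from aeval_X _ i, hzr, ← he, ← he (g.map _), ← map_mul,
          show Θ (X i) = IsLocalization.mk' Pg _ g' from aeval_X _ i, IsLocalization.mk'_spec' Pg _ g' |>
            fun h => (mul_comm _ _).trans h]
      rw [← AlgHom.comp_apply, hcomp, AlgHom.comp_apply, ← map_pow (aeval z), ← he (_ ^ k), ← map_mul,
        hs, he]
    have h1 := hgen Ψ w₀ (by rw [MvPolynomial.aeval_map_algebraMap]; exact hwg) (fun i => by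
      rw [MvPolynomial.aeval_map_algebraMap, MvPolynomial.aeval_map_algebraMap, ← hψ]
      congr 1
      show Algebra.TensorProduct.lift _ _ _ _ = _
      rw [Algebra.TensorProduct.lift_tmul]
      simp)
    rw [hz, zero_mul] at h1
    obtain ⟨c, hc⟩ := hevker q h1.symm
    have h2 := hgen φ w hwg' hφr
    rw [hc, map_mul, hwF', zero_mul] at h2
    exact (mul_eq_zero.mp h2).resolve_right (pow_ne_zero _ hwg')
  rw [PrimeSpectrum.irreducibleSpace_iff_isPrime_nilradical,
    show nilradical (L ⊗[R] B) = RingHom.ker Ψ from le_antisymm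
      (fun z hz => RingHom.mem_ker.mpr ((IsNilpotent.map (mem_nilradical.mp hz) Ψ).eq_zero)) fun z hz => mem_nilradical.mpr (hle z hz)]
  exact RingHom.ker_isPrime _

end Groth.Agent.GeomSpread
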