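import Mathlib.RingTheory.Algebraic.Integral
import Mathlib.FieldTheory.IsAlgClosed.Basic
import Mathlib.RingTheory.Ideal.GoingUp
import Mathlib.RingTheory.Localization.Away.AdjoinRoot
import Mathlib.RingTheory.FiniteType
import Mathlib.RingTheory.LocalRing.ResidueField.Basic

/-! # Coefficient rings inside an algebraic extension -/

set_option autoImplicit false

universe u

namespace Groth.Agent.GeomSpread

/-- Finitely many algebraic elements lie in a finitely generated subalgebra to which every geometric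
point of a dense open extends. -/
theorem exists_subalgebra {R : Type u} [CommRing R] [IsDomain R] (Kb : Type u) [Field Kb] [Algebra R Kb]
    [Algebra.IsAlgebraic R Kb] (hinj : Function.Injective (algebraMap R Kb)) (S₀ : Finset Kb) :
    ∃ R' : Subalgebra R Kb, (S₀ : Set Kb) ⊆ R' ∧ R'.FG ∧ ∃ c : R, c ≠ 0 ∧
      ∀ (L : Type u) [Field L] [IsAlgClosed L] [Algebra R L], algebraMap R L c ≠ 0 →
        Nonempty (R' →ₐ[R] L) := by
  classical
  obtain ⟨c, hc, hint⟩ := Algebra.IsAlgebraic.exists_integral_multiples R S₀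
  let R₁ := Algebra.adjoin R ((fun x => c • x) '' (S₀ : Set Kb))
  haveI : Algebra.IsIntegral R R₁ := Algebra.IsIntegral.adjoin (by rintro _ ⟨x, hx, rfl⟩; exact hint x hx)
  haveI : Algebra.FiniteType R R₁ := (Subalgebra.fg_iff_finiteType R₁).mp
    (Subalgebra.fg_def.mpr ⟨_, S₀.finite_toSet.image _, rfl⟩)
  let cb : R₁ := algebraMap R R₁ c
  have hcK : algebraMap R Kb c ≠ 0 := (map_ne_zero_iff _ hinj).mpr hc
  have hu : ∀ y : Submonoid.powers cb, IsUnit (R₁.val y) := by
    rintro ⟨_, n, rfl⟩
    show IsUnit (R₁.val (cb ^ n))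
    rw [map_pow]
    exact (IsUnit.mk0 _ (show R₁.val cb ≠ 0 from hcK)).pow n
  let Loc := Localization.Away cb
  let ι : Loc →ₐ[R] Kb := IsLocalization.liftAlgHom (M := Submonoid.powers cb) (f := R₁.val) hu
  haveI : Algebra.FiniteType R₁ Loc := by
    haveI := IsLocalization.Away.finitePresentation cb (S := Loc)
    infer_instance
  haveI : Algebra.FiniteType R Loc := Algebra.FiniteType.trans (S := R₁) inferInstance inferInstance
  refine ⟨ι.range, fun x hx => ?_, ?_, c, hc, fun L _ _ _ hL => ?_⟩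
  · refine ⟨IsLocalization.mk' Loc (⟨c • x, Algebra.subset_adjoin ⟨x, hx, rfl⟩⟩ : R₁)
      (⟨cb, Submonoid.mem_powers cb⟩ : Submonoid.powers cb), ?_⟩
    refine (IsLocalization.lift_mk'_spec (g := R₁.val.toRingHom) (hg := hu) _ _ _).mpr ?_
    show c • x = algebraMap R Kb c * x
    rw [Algebra.smul_def]
  · rw [← Algebra.map_top]
    exact (Algebra.FiniteType.out).map ι
  · let p := RingHom.ker (algebraMap R L)
    haveI : p.IsPrime := RingHom.ker_isPrime _
    have hinj₁ : Function.Injective (algebraMap R R₁) := fun a b h => hinj (congrArg Subtype.val h)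
    obtain ⟨Q, -, hQ, hQp⟩ := Ideal.exists_ideal_over_prime_of_isIntegral (S := R₁) p ⊥ (by
      rw [← RingHom.ker_eq_comap_bot, (RingHom.injective_iff_ker_eq_bot _).mp hinj₁]; exact bot_le)
    haveI := hQ
    haveI : Q.LiesOver p := ⟨hQp.symm⟩
    letI : Algebra (R ⧸ p) L := (RingHom.kerLift (algebraMap R L)).toAlgebra
    haveI : Module.IsTorsionFree (R ⧸ p) L :=
      Module.isTorsionFree_iff_algebraMap_injective.mpr (RingHom.kerLift_injective _)
    haveI : IsDomain (R₁ ⧸ Q) := Ideal.Quotient.isDomain Q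
    haveI : Module.IsTorsionFree (R ⧸ p) (R₁ ⧸ Q) :=
      Module.isTorsionFree_iff_algebraMap_injective.mpr (FaithfulSMul.algebraMap_injective _ _)
    haveI : Algebra.IsIntegral (R ⧸ p) (R₁ ⧸ Q) := inferInstance
    let e : (R₁ ⧸ Q) →ₐ[R ⧸ p] L := IsAlgClosed.lift
    let χ₁ : R₁ →ₐ[R] L :=
      { toRingHom := e.toRingHom.comp (Ideal.Quotient.mk Q)
        commutes' := fun r => e.commutes (Ideal.Quotient.mk p r) }
    have hu' : ∀ y : Submonoid.powers cb, IsUnit (χ₁ y) := by
      rintro ⟨_, n, rfl⟩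
      show IsUnit (χ₁ (cb ^ n))
      rw [map_pow, AlgHom.commutes]
      exact (IsUnit.mk0 _ hL).pow n
    let χ : Loc →ₐ[R] L := IsLocalization.liftAlgHom (M := Submonoid.powers cb) (f := χ₁) hu'
    have hιinj : Function.Injective ι := (injective_iff_map_eq_zero ι).mpr fun z hz => by
      obtain ⟨⟨b, s⟩, hs⟩ := IsLocalization.surj (Submonoid.powers cb) z
      have h0 : ι (algebraMap R₁ Loc b) = R₁.val b := IsLocalization.lift_eq (g := R₁.val.toRingHom) hu b
      have h1 : R₁.val b = 0 := by rw [← h0, ← hs, map_mul, hz, zero_mul]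
      have h2 : b = 0 := Subtype.ext h1
      rw [h2, map_zero] at hs
      exact (IsLocalization.map_units Loc s).mul_left_eq_zero.mp hs
    exact ⟨χ.comp (AlgEquiv.ofInjective ι hιinj).symm.toAlgHom⟩

end Groth.Agent.GeomSpread
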