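import Mathlib.FieldTheory.SeparablyGenerated
import Mathlib.FieldTheory.PrimitiveElement
import Mathlib.FieldTheory.Perfect
import Mathlib.FieldTheory.Minpoly.IsIntegrallyClosed
import Mathlib.RingTheory.AlgebraicIndependent.Adjoin
import Mathlib.RingTheory.Algebraic.Integral
import Mathlib.RingTheory.Polynomial.UniqueFactorization
import Mathlib.Algebra.MvPolynomial.Equiv
import Mathlib.RingTheory.EssentialFiniteness
import Mathlib.RingTheory.Polynomial.RationalRoot
import Mathlib.RingTheory.IntegralClosure.IntegrallyClosed
import Mathlib.FieldTheory.IntermediateField.Adjoin.Algebra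

/-! # Finitely generated extensions of algebraically closed fields are function fields of hypersurfaces -/

set_option autoImplicit false

universe u

open MvPolynomial

namespace Groth.Agent.GeomSpread

/-- A finitely generated extension of an algebraically closed field is generated by independent elements
`v (some i)` and an element `v none` satisfying a monic irreducible equation generating all relations. -/
theorem exists_hypersurface (k : Type u) [Field k] [IsAlgClosed k] (L : Type u) [Field L] [Algebra k L]
    [Algebra.EssFiniteType k L] :
    ∃ (σ : Type u) (_ : Fintype σ) (F : Polynomial (MvPolynomial σ k)) (v : Option σ → L),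
      F.Monic ∧ F.natDegree ≠ 0 ∧ Irreducible F ∧
      (∀ P : MvPolynomial (Option σ) k, aeval v P = 0 ↔ F ∣ optionEquivLeft k σ P) ∧
      ∀ x : L, ∃ r s : MvPolynomial (Option σ) k, x = aeval v r / aeval v s := by
  classical
  obtain ⟨t, ht, hsep⟩ := exists_isTranscendenceBasis_and_isSeparable_of_perfectField k L
  let E := IntermediateField.adjoin k (t : Set L)
  haveI : Algebra.EssFiniteType E L := Algebra.EssFiniteType.of_comp k E L
  haveI : Algebra.IsSeparable E L := hsep
  haveI : Module.Finite E L := Algebra.finite_of_essFiniteType_of_isAlgebraic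
  obtain ⟨α, hα⟩ := Field.exists_primitive_element E L
  let σ := (t : Finset L)
  let T := MvPolynomial σ k
  let φ : T →ₐ[k] L := aeval ((↑) : σ → L)
  have hφ : Function.Injective φ := ht.1
  letI : Algebra T L := φ.toRingHom.toAlgebra
  haveI : IsScalarTower k T L := IsScalarTower.of_algebraMap_eq fun r => (φ.commutes r).symm
  have halg : IsAlgebraic T α := by
    haveI := ht.isAlgebraic
    have h1 : IsAlgebraic (Algebra.adjoin k (Set.range ((↑) : σ → L))) α :=
      Algebra.IsAlgebraic.isAlgebraic α
    let e := ht.1.aevalEquiv
    refine h1.ringHom_of_comp_eq e.symm.toRingEquiv.toRingHom (RingHom.id L) e.symm.injective ?_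
    ext a
    show φ (e.symm a) = (a : L)
    have := congrArg Subtype.val (e.apply_symm_apply a)
    exact this
  obtain ⟨y, hy0, hy⟩ := halg.exists_integral_multiple
  let u := y • α
  have hu : IsIntegral T u := hy
  let v : Option σ → L := fun o => o.elim u (fun i => (i : L))
  have hev : ∀ P, aeval v P = Polynomial.aeval u (optionEquivLeft k σ P) := by
    intro P
    have : aeval v = ((Polynomial.aeval u).restrictScalars k).comp (optionEquivLeft k σ).toAlgHom := by
      apply MvPolynomial.algHom_ext
      rintro (_ | i)
      · simp [v]
      · rw [aeval_X]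
        show (i : L) = Polynomial.aeval u (optionEquivLeft k σ (X (some i)))
        rw [optionEquivLeft_X_some, Polynomial.aeval_C]
        show (i : L) = φ (X i)
        exact (aeval_X _ i).symm
    exact congrArg (fun h : MvPolynomial (Option σ) k →ₐ[k] L => h P) this
  haveI : Module.IsTorsionFree T L := Module.isTorsionFree_iff_algebraMap_injective.mpr hφ
  refine ⟨σ, inferInstance, minpoly T u, v, minpoly.monic hu, (minpoly.natDegree_pos hu).ne', minpoly.irreducible hu,
    fun P => by rw [hev, minpoly.isIntegrallyClosed_dvd_iff hu], fun x => ?_⟩
  rw [← IntermediateField.mem_adjoin_range_iff]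
  suffices IntermediateField.adjoin k (Set.range v) = ⊤ by rw [this]; exact IntermediateField.mem_top
  rw [eq_top_iff, ← IntermediateField.restrictScalars_top (K := k) (F := E) (E := L), ← hα,
    IntermediateField.adjoin_adjoin_left, IntermediateField.adjoin_le_iff]
  have hsome : ∀ i : σ, (i : L) ∈ IntermediateField.adjoin k (Set.range v) := fun i =>
    IntermediateField.subset_adjoin _ _ ⟨some i, rfl⟩
  rintro z (hz | hz)
  · exact hsome ⟨z, hz⟩
  · rw [Set.mem_singleton_iff.mp hz]
    have hy' : algebraMap T L y ∈ IntermediateField.adjoin k (Set.range v) := by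
      show φ y ∈ _
      have : φ y ∈ Algebra.adjoin k (Set.range ((↑) : σ → L)) := by
        rw [Algebra.adjoin_range_eq_range_aeval]; exact ⟨y, rfl⟩
      refine Algebra.adjoin_le (S := (IntermediateField.adjoin k (Set.range v)).toSubalgebra) ?_ this
      rintro _ ⟨i, rfl⟩
      exact hsome i
    have hu' : u ∈ IntermediateField.adjoin k (Set.range v) :=
      IntermediateField.subset_adjoin _ _ ⟨none, rfl⟩
    have : α = u * (algebraMap T L y)⁻¹ := by
      have hne : algebraMap T L y ≠ 0 := (map_ne_zero_iff _ hφ).mpr hy0
      show α = (y • α) * _
      rw [Algebra.smul_def]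
      field_simp
    show α ∈ _
    rw [this]
    exact mul_mem hu' (inv_mem hy')

end Groth.Agent.GeomSpread
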