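import Groth.Agent.GeomSpread.Poly
import Groth.Agent.GeomSpread.Hypersurface
import Groth.Agent.GeomSpread.Core
import Groth.Agent.GeomSpread.Extension
import Mathlib.RingTheory.TensorProduct.MvPolynomial

/-! # Geometric irreducibility of fibres spreads out (EGA IV 9.7.7, affine case) -/

set_option autoImplicit false

universe u

open scoped TensorProduct
open MvPolynomial

namespace Groth.Agent.GeomSpread

open Groth.Agent.FlatMisc.GenericFree

theorem map_optionEquivLeft {R S : Type u} [CommRing R] [CommRing S] (f : R →+* S) (σ : Type u)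
    (p : MvPolynomial (Option σ) R) :
    (optionEquivLeft R σ p).map (MvPolynomial.map f) = optionEquivLeft S σ (p.map f) := by
  have : (Polynomial.mapRingHom (MvPolynomial.map f)).comp (optionEquivLeft R σ).toRingEquiv.toRingHom =
      (optionEquivLeft S σ).toRingEquiv.toRingHom.comp (MvPolynomial.map f) := by
    refine MvPolynomial.ringHom_ext (fun r => ?_) fun o => ?_
    · show (optionEquivLeft R σ (C r)).map _ = optionEquivLeft S σ (MvPolynomial.map f (C r))
      rw [map_C, optionEquivLeft_C, optionEquivLeft_C, Polynomial.map_C, map_C]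
    · show (optionEquivLeft R σ (X o)).map _ = optionEquivLeft S σ (MvPolynomial.map f (X o))
      cases o with
      | none => rw [map_X, optionEquivLeft_X_none, optionEquivLeft_X_none, Polynomial.map_X]
      | some i => rw [map_X, optionEquivLeft_X_some, optionEquivLeft_X_some, Polynomial.map_C, map_X]
  exact RingHom.congr_fun this p

/-- The fibres of a monic hypersurface model are irreducible over a dense open. -/
theorem exists_irreducible_fibres_model {R : Type u} [CommRing R] [IsDomain R] (Kb : Type u) [Field Kb]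
    [IsAlgClosed Kb] [Algebra R Kb] (hinjR : Function.Injective (algebraMap R Kb))
    {L₀ : Type u} [Field L₀] [Algebra R L₀] (hinj₀ : Function.Injective (algebraMap R L₀))
    (B : Subalgebra R L₀) [Algebra.FiniteType R B]
    {ι : Type u} (β : ι → B) (hβ : Function.Surjective (aeval β : MvPolynomial ι R →ₐ[R] B))
    {σ : Type u} [Fintype σ] (v : Option σ → L₀) (F : MvPolynomial (Option σ) R)
    (hmonic : (optionEquivLeft R σ F).Monic) (hdeg : (optionEquivLeft R σ F).natDegree ≠ 0)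
    (hirr : Irreducible (F.map (algebraMap R Kb))) (hF0 : aeval v F = 0)
    (hker : ∀ q : MvPolynomial (Option σ) R, aeval v q = 0 → F ∣ q)
    (g : MvPolynomial (Option σ) R) (hg : aeval v g ≠ 0)
    (r : ι → MvPolynomial (Option σ) R) (hr : ∀ i, (β i : L₀) * aeval v g = aeval v (r i))
    (h : B) (hh : h ≠ 0) (hv : ∀ o, ∃ (a : B) (n : ℕ), v o * (h : L₀) ^ n = a)
    (hginv : ∃ (a : B) (n : ℕ), (h : L₀) ^ n = aeval v g * a) :
    ∃ f : R, f ≠ 0 ∧ ∀ (L : Type u) [Field L] [Algebra R L], algebraMap R L f ≠ 0 →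
      IrreducibleSpace (PrimeSpectrum (L ⊗[R] B)) := by
  obtain ⟨f₀, hf₀, hirr'⟩ := exists_irreducible F
    (m₀ := Finsupp.optionElim (optionEquivLeft R σ F).natDegree (0 : σ →₀ ℕ))
    (fun h0 => hdeg (by
      have := DFunLike.congr_fun h0 none
      rwa [Finsupp.optionElim_apply_none] at this))
    (by rw [← optionEquivLeft_coeff_coeff, hmonic.coeff_natDegree, MvPolynomial.coeff_zero_one]; exact isUnit_one)
    Kb hinjR hirr
  obtain ⟨f₁, hd₁, hf₁, hfree₁⟩ := genFree (R := R) B B f₀ hf₀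
  obtain ⟨f₂, hd₂, hf₂, hfree₂⟩ := genFree (R := R) B (B ⧸ Ideal.span {h}) f₁ hf₁
  have hinj : Function.Injective (LinearMap.mulLeft R h) := fun a b hab => mul_left_cancel₀ hh hab
  refine ⟨f₂, hf₂, fun L _ _ hL => ?_⟩
  have hL₀ : algebraMap R L f₀ ≠ 0 := fun h0 => hL (eq_zero_of_zero_dvd (h0 ▸ map_dvd _ (hd₁.trans hd₂)))
  haveI : Nontrivial (L ⊗[R] B) := by
    refine nontrivial_tensor_of_freeAt (hfree₁.of_dvd hd₂) (m := (1 : B)) (fun k hk => hf₂ ?_) L hL
    have h1 : algebraMap R L₀ (f₂ ^ k) = 0 := by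
      have := congrArg Subtype.val hk
      rw [Algebra.smul_def, mul_one] at this
      exact this
    exact pow_eq_zero_iff'.mp (hinj₀ (h1.trans (map_zero _).symm)) |>.1
  refine isPrime_nilradical_tensor B.val Subtype.val_injective β hβ v F g hF0 hker hg r hr h hh hv hginv L
    (hirr' L hL₀) ?_
  refine injective_lTensor_of_freeAt (LinearMap.mulLeft R h) hinj
    ((Ideal.Quotient.mkₐ R (Ideal.span {h})).toLinearMap) Ideal.Quotient.mk_surjective ?_ hfree₂ L hL
  intro z
  show Ideal.Quotient.mk _ z = 0 ↔ _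
  rw [Ideal.Quotient.eq_zero_iff_mem, Ideal.mem_span_singleton']
  exact ⟨fun ⟨a, ha⟩ => ⟨a, (mul_comm h a).trans ha⟩, fun ⟨a, ha⟩ => ⟨a, (mul_comm a h).trans ha⟩⟩

/-- Elements killed in a base change to a field containing the base are torsion. -/
theorem exists_smul_eq_zero {R : Type u} [CommRing R] [IsDomain R] {F : Type u} [Field F] [Algebra R F]
    (hinj : Function.Injective (algebraMap R F)) {M : Type u} [AddCommGroup M] [Module R M] {x : M}
    (hx : (1 : F) ⊗ₜ[R] x = 0) : ∃ r : R, r ≠ 0 ∧ r • x = 0 := by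
  let K := FractionRing R
  let ι : K →ₐ[R] F := IsLocalization.liftAlgHom (M := nonZeroDivisors R) (f := Algebra.ofId R F)
    fun y => (map_ne_zero_iff _ hinj).mpr (nonZeroDivisors.ne_zero y.2) |>.isUnit
  letI := ι.toRingHom.toAlgebra
  haveI : IsScalarTower R K F := IsScalarTower.of_algebraMap_eq fun r => (ι.commutes r).symm
  have h1 : (1 : F) ⊗ₜ[K] ((1 : K) ⊗ₜ[R] x) = 0 := by
    apply (TensorProduct.AlgebraTensorModule.cancelBaseChange R K F F M).injective
    rw [map_zero, TensorProduct.AlgebraTensorModule.cancelBaseChange_tmul, one_smul, hx]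
  have h2 : TensorProduct.mk R K M 1 x = 0 :=
    (Module.FaithfullyFlat.one_tmul_eq_zero_iff K (M := K ⊗[R] M) (A := F) _).mp h1
  obtain ⟨⟨r, hr⟩, hrx⟩ :=
    (IsLocalizedModule.eq_zero_iff (nonZeroDivisors R) (TensorProduct.mk R K M 1)).mp h2
  exact ⟨r, nonZeroDivisors.ne_zero hr, hrx⟩

/-- A surjection with kernel inside every prime preserves irreducibility of the spectrum. -/
theorem irreducibleSpace_of_factor {T T' : Type u} [CommRing T] [CommRing T'] (π : T →+* T')
    (hπ : ∀ Q : Ideal T, Q.IsPrime → ∃ P : PrimeSpectrum T', P.asIdeal.comap π = Q)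
    [IrreducibleSpace (PrimeSpectrum T')] : IrreducibleSpace (PrimeSpectrum T) := by
  have hs : Function.Surjective (PrimeSpectrum.comap π) := fun Q => by
    obtain ⟨P, hP⟩ := hπ Q.asIdeal Q.isPrime
    exact ⟨P, PrimeSpectrum.ext hP⟩
  haveI : Nonempty (PrimeSpectrum T) := ⟨PrimeSpectrum.comap π (Classical.arbitrary _)⟩
  rw [irreducibleSpace_def, Set.top_eq_univ, ← hs.range_eq, ← Set.image_univ]
  exact (IrreducibleSpace.isIrreducible_univ _).image _ (PrimeSpectrum.continuous_comap π).continuousOn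

/-- A point of a base change extends to any field extension. -/
theorem exists_prime_over_extension {R B L L' : Type u} [CommRing R] [CommRing B] [Algebra R B]
    [Field L] [Algebra R L] [Field L'] [Algebra R L'] [Algebra L L'] [IsScalarTower R L L']
    (Q : Ideal (L ⊗[R] B)) [Q.IsPrime] :
    ∃ P : PrimeSpectrum (L' ⊗[R] B),
      P.asIdeal.comap (Algebra.TensorProduct.map (IsScalarTower.toAlgHom R L L') (AlgHom.id R B)).toRingHom = Q := by
  haveI : IsDomain ((L ⊗[R] B) ⧸ Q) := Ideal.Quotient.isDomain Q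
  let Fk := FractionRing ((L ⊗[R] B) ⧸ Q)
  let φ : L ⊗[R] B →ₐ[L] Fk :=
    (IsScalarTower.toAlgHom L ((L ⊗[R] B) ⧸ Q) Fk).comp (Ideal.Quotient.mkₐ L Q)
  obtain ⟨n, hn⟩ := Ideal.exists_maximal (Fk ⊗[L] L')
  letI : Field ((Fk ⊗[L] L') ⧸ n) := Ideal.Quotient.field n
  let a : Fk →ₐ[L] (Fk ⊗[L] L') ⧸ n :=
    (Ideal.Quotient.mkₐ L n).comp Algebra.TensorProduct.includeLeft
  let b : L' →ₐ[L] (Fk ⊗[L] L') ⧸ n :=
    (Ideal.Quotient.mkₐ L n).comp Algebra.TensorProduct.includeRight
  let θ : L' ⊗[R] B →ₐ[R] (Fk ⊗[L] L') ⧸ n := Algebra.TensorProduct.lift (b.restrictScalars R)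
    (((a.comp φ).restrictScalars R).comp Algebra.TensorProduct.includeRight) fun _ _ => Commute.all _ _
  refine ⟨⟨RingHom.ker θ, RingHom.ker_isPrime _⟩, ?_⟩
  have hθ : θ.comp (Algebra.TensorProduct.map (IsScalarTower.toAlgHom R L L') (AlgHom.id R B)) =
      (a.comp φ).restrictScalars R := by
    refine Algebra.TensorProduct.ext ?_ ?_
    · ext l
      show θ (algebraMap L L' l ⊗ₜ 1) = a (φ (l ⊗ₜ 1))
      rw [Algebra.TensorProduct.lift_tmul, map_one, mul_one]
      show b (algebraMap L L' l) = a (φ (algebraMap L (L ⊗[R] B) l))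
      rw [AlgHom.commutes, AlgHom.commutes, AlgHom.commutes]
    · ext x
      show θ (algebraMap L L' 1 ⊗ₜ x) = a (φ (1 ⊗ₜ x))
      rw [map_one, Algebra.TensorProduct.lift_tmul, map_one, one_mul]
      rfl
  ext z
  show θ (Algebra.TensorProduct.map (IsScalarTower.toAlgHom R L L') (AlgHom.id R B) z) = 0 ↔ _
  rw [← AlgHom.comp_apply, hθ]
  show a (φ z) = 0 ↔ _
  rw [map_eq_zero_iff a a.toRingHom.injective]
  show algebraMap _ Fk (Ideal.Quotient.mk Q z) = 0 ↔ _
  rw [map_eq_zero_iff _ (IsFractionRing.injective _ _), Ideal.Quotient.eq_zero_iff_mem]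

/-- If the geometric generic fibre of a finite type algebra over a domain is irreducible, so are all
fibres over a dense open, after any field extension. -/
theorem exists_irreducible_fibres {R : Type u} [CommRing R] [IsDomain R] (B : Type u) [CommRing B]
    [Algebra R B] [Algebra.FiniteType R B] (Kb : Type u) [Field Kb] [IsAlgClosed Kb] [Algebra R Kb]
    [Algebra.IsAlgebraic R Kb] (hinj : Function.Injective (algebraMap R Kb))
    (h : IrreducibleSpace (PrimeSpectrum (Kb ⊗[R] B))) :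
    ∃ f : R, f ≠ 0 ∧ ∀ (L : Type u) [Field L] [Algebra R L], algebraMap R L f ≠ 0 →
      IrreducibleSpace (PrimeSpectrum (L ⊗[R] B)) := by
  classical
  let A := (Kb ⊗[R] B) ⧸ nilradical (Kb ⊗[R] B)
  haveI : (nilradical (Kb ⊗[R] B)).IsPrime := PrimeSpectrum.irreducibleSpace_iff_isPrime_nilradical.mp h
  haveI : IsDomain A := Ideal.Quotient.isDomain _
  haveI : Algebra.FiniteType Kb A :=
    Algebra.FiniteType.of_surjective (Ideal.Quotient.mkₐ Kb _) Ideal.Quotient.mk_surjective
  let L₀ := FractionRing A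
  haveI : Algebra.EssFiniteType A L₀ := Algebra.EssFiniteType.of_isLocalization L₀ (nonZeroDivisors A)
  haveI : Algebra.EssFiniteType Kb L₀ := Algebra.EssFiniteType.comp Kb A L₀
  obtain ⟨σ, _, F, v, hmonic, hdeg, hirr, hker, hfrac⟩ := exists_hypersurface Kb L₀
  let toL : Kb ⊗[R] B →ₐ[Kb] L₀ := (IsScalarTower.toAlgHom Kb A L₀).comp (Ideal.Quotient.mkₐ Kb _)
  obtain ⟨sB, hsB⟩ := (Algebra.FiniteType.out : (⊤ : Subalgebra R B).FG)
  have hfrac' : ∀ x : L₀, ∃ r s : MvPolynomial (Option σ) Kb, aeval v s ≠ 0 ∧ x * aeval v s = aeval v r := by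
    intro x
    obtain ⟨r, s, hrs⟩ := hfrac x
    by_cases h0 : aeval v s = 0
    · exact ⟨0, 1, by simp, by simp [hrs, h0]⟩
    · exact ⟨r, s, h0, by rw [hrs, div_mul_cancel₀ _ h0]⟩
  choose rb sb hsb hrb using fun b : sB => hfrac' (toL (1 ⊗ₜ (b : B)))
  let g₀ : MvPolynomial (Option σ) Kb := ∏ b, sb b
  let r₀ : sB → MvPolynomial (Option σ) Kb := fun b => rb b * ∏ b' ∈ Finset.univ.erase b, sb b'
  have hg₀ : aeval v g₀ ≠ 0 := by
    rw [map_prod]
    exact Finset.prod_ne_zero_iff.mpr fun b _ => hsb b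
  have hr₀ : ∀ b : sB, toL (1 ⊗ₜ (b : B)) * aeval v g₀ = aeval v (r₀ b) := fun b => by
    simp only [g₀, r₀]
    rw [← Finset.mul_prod_erase _ _ (Finset.mem_univ b), map_mul, map_mul, ← mul_assoc, hrb]
  have hfracA : ∀ x : L₀, ∃ a e : Kb ⊗[R] B, toL e ≠ 0 ∧ x * toL e = toL a := by
    intro x
    obtain ⟨a, e, he, hx⟩ := IsFractionRing.div_surjective (A := A) x
    obtain ⟨a', rfl⟩ := Ideal.Quotient.mk_surjective a
    obtain ⟨e', rfl⟩ := Ideal.Quotient.mk_surjective e
    have he' : toL e' ≠ 0 :=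
      (map_ne_zero_iff _ (IsFractionRing.injective A L₀)).mpr (nonZeroDivisors.ne_zero he)
    exact ⟨a', e', he', by rw [← hx]; exact div_mul_cancel₀ _ he'⟩
  choose av ev hev hav using fun o : Option σ => hfracA (v o)
  obtain ⟨ag, eg, heg, hag⟩ := hfracA (aeval v g₀)⁻¹
  choose Sv hSv using fun z : Kb ⊗[R] B => TensorProduct.exists_finset z
  let S₀ : Finset Kb :=
    Finset.univ.biUnion (fun o => (Sv (av o)).image Prod.fst ∪ (Sv (ev o)).image Prod.fst) ∪
    ((Sv ag).image Prod.fst ∪ (Sv eg).image Prod.fst) ∪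
    ((g₀.support.image fun m => coeff m g₀) ∪
      (Finset.univ.biUnion fun b => (r₀ b).support.image fun m => coeff m (r₀ b))) ∪
    (((optionEquivLeft Kb σ).symm F).support.image fun m => coeff m ((optionEquivLeft Kb σ).symm F))
  obtain ⟨R', hS₀, hfg, c, hc, hext⟩ := exists_subalgebra Kb hinj S₀
  haveI : Algebra.FiniteType R R' := (Subalgebra.fg_iff_finiteType R').mp hfg
  -- everything is defined over `R'`
  have hlift : ∀ P : MvPolynomial (Option σ) Kb, (∀ m ∈ P.support, coeff m P ∈ S₀) →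
      ∃ P' : MvPolynomial (Option σ) R', P'.map (algebraMap R' Kb) = P := by
    intro P hP
    refine MvPolynomial.mem_range_map_iff_coeffs_subset.mpr ?_
    intro x hx
    rw [Finset.mem_coe, MvPolynomial.mem_coeffs_iff] at hx
    obtain ⟨m, hm, rfl⟩ := hx
    exact ⟨⟨_, hS₀ (hP m hm)⟩, rfl⟩
  obtain ⟨g, hg⟩ := hlift g₀ fun m hm =>
    Finset.mem_union_left _ (Finset.mem_union_right _ (Finset.mem_union_left _ (Finset.mem_image_of_mem _ hm)))
  choose r hr using fun b => hlift (r₀ b) fun m hm =>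
    Finset.mem_union_left _ (Finset.mem_union_right _ (Finset.mem_union_right _
      (Finset.mem_biUnion.mpr ⟨b, Finset.mem_univ _, Finset.mem_image_of_mem _ hm⟩)))
  obtain ⟨F', hF'⟩ := hlift ((optionEquivLeft Kb σ).symm F) fun m hm =>
    Finset.mem_union_right _ (Finset.mem_image_of_mem _ hm)
  let ψ : R' ⊗[R] B →ₐ[R'] L₀ := Algebra.TensorProduct.lift (Algebra.ofId R' L₀)
    ((toL.restrictScalars R).comp Algebra.TensorProduct.includeRight) fun _ _ => Commute.all _ _
  have hψ : ∀ (k : R') (b : B), ψ (k ⊗ₜ b) = toL ((k : Kb) ⊗ₜ b) := fun k b => by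
    rw [Algebra.TensorProduct.lift_tmul]
    show algebraMap R' L₀ k * toL (1 ⊗ₜ b) = _
    rw [IsScalarTower.algebraMap_apply R' Kb L₀, ← AlgHom.commutes toL, ← map_mul]
    congr 1
    simp [Algebra.TensorProduct.algebraMap_apply]
  let B₂ := ψ.range
  have hmem : ∀ z : Kb ⊗[R] B, (∀ p ∈ Sv z, p.1 ∈ S₀) → toL z ∈ B₂ := by
    intro z hz
    rw [hSv z, map_sum]
    refine Subalgebra.sum_mem _ fun p hp => ?_
    exact ⟨(⟨p.1, hS₀ (hz p hp)⟩ : R') ⊗ₜ p.2, hψ _ _⟩
  have hav' : ∀ o, toL (av o) ∈ B₂ ∧ toL (ev o) ∈ B₂ := fun o =>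
    ⟨hmem _ fun p hp => Finset.mem_union_left _ (Finset.mem_union_left _ (Finset.mem_union_left _
      (Finset.mem_biUnion.mpr ⟨o, Finset.mem_univ _, Finset.mem_union_left _ (Finset.mem_image_of_mem _ hp)⟩))),
    hmem _ fun p hp => Finset.mem_union_left _ (Finset.mem_union_left _ (Finset.mem_union_left _
      (Finset.mem_biUnion.mpr ⟨o, Finset.mem_univ _, Finset.mem_union_right _ (Finset.mem_image_of_mem _ hp)⟩)))⟩
  have hag' : toL ag ∈ B₂ ∧ toL eg ∈ B₂ :=
    ⟨hmem _ fun p hp => Finset.mem_union_left _ (Finset.mem_union_left _ (Finset.mem_union_right _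
      (Finset.mem_union_left _ (Finset.mem_image_of_mem _ hp)))),
    hmem _ fun p hp => Finset.mem_union_left _ (Finset.mem_union_left _ (Finset.mem_union_right _
      (Finset.mem_union_right _ (Finset.mem_image_of_mem _ hp))))⟩
  let β : sB → B₂ := fun b => ⟨toL (1 ⊗ₜ (b : B)), 1 ⊗ₜ (b : B), (hψ 1 _).trans rfl⟩
  have hβ : Function.Surjective (aeval β : MvPolynomial sB R' →ₐ[R'] B₂) := by
    intro z
    obtain ⟨y, hy⟩ := z.2
    have hb : ∀ b : B, ∃ p : MvPolynomial sB R', (aeval β p : L₀) = toL (1 ⊗ₜ b) := by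
      intro b
      have hb : b ∈ Algebra.adjoin R (Set.range (Subtype.val : sB → B)) := by
        rw [Subtype.range_coe_subtype, Finset.setOf_mem, hsB]; trivial
      rw [Algebra.adjoin_range_eq_range_aeval] at hb
      obtain ⟨q, rfl⟩ := hb
      refine ⟨q.map (algebraMap R R'), ?_⟩
      rw [MvPolynomial.aeval_map_algebraMap]
      have : (B₂.val.restrictScalars R).comp (aeval β) =
          ((toL.restrictScalars R).comp Algebra.TensorProduct.includeRight).comp
            (aeval (Subtype.val : sB → B)) := MvPolynomial.algHom_ext fun i => by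
        show (aeval β (X i) : L₀) = toL (1 ⊗ₜ aeval _ (X i))
        rw [aeval_X, aeval_X]
      exact AlgHom.congr_fun this q
    induction y using TensorProduct.induction_on generalizing z with
    | zero => exact ⟨0, by rw [map_zero]; exact Subtype.ext ((map_zero ψ).symm.trans hy)⟩
    | tmul k b =>
      obtain ⟨p, hp⟩ := hb b
      refine ⟨C k * p, Subtype.ext (Eq.trans ?_ ((hψ k b).symm.trans hy))⟩
      rw [map_mul, aeval_C, Subalgebra.coe_mul, hp, Subalgebra.coe_algebraMap,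
        IsScalarTower.algebraMap_apply R' Kb L₀, ← AlgHom.commutes toL, ← map_mul]
      congr 1
      simp [Algebra.TensorProduct.algebraMap_apply]
    | add x y hx hy' =>
      obtain ⟨p, hp⟩ := hx ⟨ψ x, x, rfl⟩ rfl
      obtain ⟨p', hp'⟩ := hy' ⟨ψ y, y, rfl⟩ rfl
      exact ⟨p + p', Subtype.ext (by rw [map_add, hp, hp']; exact (map_add ψ x y).symm.trans hy)⟩
  haveI : Algebra.FiniteType R' B₂ := Algebra.FiniteType.of_surjective (aeval β) hβ
  have hevmap : ∀ q : MvPolynomial (Option σ) R', aeval v (q.map (algebraMap R' Kb)) = aeval v q :=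
    fun q => MvPolynomial.aeval_map_algebraMap Kb v q
  have hinj' : Function.Injective (algebraMap R' Kb) := fun a b hab => Subtype.ext hab
  have hmapF : (optionEquivLeft R' σ F').map (MvPolynomial.map (algebraMap R' Kb)) = F := by
    rw [map_optionEquivLeft, hF', AlgEquiv.apply_symm_apply]
  have hmap_inj := MvPolynomial.map_injective (σ := σ) (algebraMap R' Kb) hinj'
  have hmonic' : (optionEquivLeft R' σ F').Monic :=
    Polynomial.monic_of_injective hmap_inj (by rw [hmapF]; exact hmonic)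
  have hh : (∏ o, toL (ev o)) * toL eg ∈ B₂ :=
    mul_mem (Subalgebra.prod_mem _ fun o _ => (hav' o).2) hag'.2
  obtain ⟨f', hf', hirr'⟩ := exists_irreducible_fibres_model Kb hinj'
    (fun a b hab => hinj' ((algebraMap Kb L₀).injective hab)) B₂ β hβ v F' hmonic'
    (by rw [← Polynomial.natDegree_map_eq_of_injective hmap_inj, hmapF]; exact hdeg)
    (by rw [hF']; exact (MulEquiv.irreducible_iff (optionEquivLeft Kb σ).symm).mpr hirr)
    (by rw [← hevmap, hF', hker, AlgEquiv.apply_symm_apply])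
    (fun q hq => by
      rw [← hevmap, hker, ← map_optionEquivLeft, ← hmapF, Polynomial.map_dvd_map _ hmap_inj hmonic'] at hq
      exact (map_dvd_iff (optionEquivLeft R' σ)).mp hq)
    g (by rw [← hevmap, hg]; exact hg₀) r
    (fun b => by rw [← hevmap, ← hevmap, hg, hr]; exact hr₀ b)
    ⟨_, hh⟩ (fun h0 => mul_ne_zero (Finset.prod_ne_zero_iff.mpr fun o _ => hev o) heg
      (congrArg Subtype.val h0))
    (fun o => ⟨⟨_, mul_mem (mul_mem (hav' o).1 (Subalgebra.prod_mem _
        fun o' (_ : o' ∈ Finset.univ.erase o) => (hav' o').2)) hag'.2⟩, 1, by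
      show v o * ((∏ o, toL (ev o)) * toL eg) ^ 1 = _
      rw [pow_one, ← Finset.mul_prod_erase _ _ (Finset.mem_univ o), ← mul_assoc, ← mul_assoc, hav]⟩)
    ⟨⟨_, mul_mem (Subalgebra.prod_mem _ fun o (_ : o ∈ Finset.univ) => (hav' o).2) hag'.1⟩, 1, by
      show ((∏ o, toL (ev o)) * toL eg) ^ 1 = aeval v g * ((∏ o, toL (ev o)) * toL ag)
      rw [pow_one, ← hevmap, hg, ← hag, mul_left_comm, ← mul_assoc (aeval v g₀), mul_inv_cancel₀ hg₀,
        one_mul]⟩
  -- the kernel of `ψ` is nilpotent over a dense open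
  haveI : Algebra.FiniteType R' (R' ⊗[R] B) := inferInstance
  obtain ⟨f₃, hd₃, hf₃, G, hGfin, hGker, hG⟩ :=
    genFG (R := R') (R' ⊗[R] B) (R' ⊗[R] B) (RingHom.ker ψ) f' hf'
  let cbc := Algebra.TensorProduct.cancelBaseChange R R' Kb Kb B
  have hnil : ∀ z ∈ G, ∃ (n : ℕ) (rz : R'), rz ≠ 0 ∧ rz • z ^ n = 0 := by
    intro z hz
    have h1 : toL (cbc ((1 : Kb) ⊗ₜ z)) = 0 := by
      have h2 : ∀ y, toL (cbc ((1 : Kb) ⊗ₜ y)) = ψ y := fun y => by
        induction y using TensorProduct.induction_on with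
        | zero => simp
        | tmul k b =>
          rw [hψ]
          congr 1
          simp [cbc, Algebra.smul_def]
        | add a b ha hb => rw [TensorProduct.tmul_add, map_add, map_add, map_add, ha, hb]
      rw [h2]
      exact hGker hz
    have h3 : IsNilpotent (cbc ((1 : Kb) ⊗ₜ z)) :=
      mem_nilradical.mp (Ideal.Quotient.eq_zero_iff_mem.mp
        (IsFractionRing.injective A L₀ (h1.trans (map_zero _).symm)))
    obtain ⟨n, hn⟩ := h3
    rw [← map_pow, map_eq_zero_iff _ cbc.injective, Algebra.TensorProduct.tmul_pow, one_pow] at hn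
    obtain ⟨rz, hrz, hrz'⟩ := exists_smul_eq_zero hinj' hn
    exact ⟨n, rz, hrz, hrz'⟩
  choose nz rz hrz hrz' using hnil
  haveI := hGfin.to_subtype
  haveI := Fintype.ofFinite G
  let f₄ : R' := f₃ * ∏ z : G, rz z.1 z.2
  have hf₄ : f₄ ≠ 0 := mul_ne_zero hf₃ (Finset.prod_ne_zero_iff.mpr fun z _ => hrz z.1 z.2)
  haveI : Algebra.IsAlgebraic R R' := ⟨fun x =>
    (isAlgebraic_algHom_iff R'.val Subtype.val_injective).mp (Algebra.IsAlgebraic.isAlgebraic (x : Kb))⟩
  obtain ⟨r₄, hr₄, hdvd⟩ := IsAlgebraic.exists_nonzero_dvd (R := R) (Algebra.IsAlgebraic.isAlgebraic f₄)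
    (mem_nonZeroDivisors_of_ne_zero hf₄)
  refine ⟨c * r₄, mul_ne_zero hc hr₄, fun L _ _ hL => ?_⟩
  rw [map_mul] at hL
  let L' := AlgebraicClosure L
  have hcL : algebraMap R L' c ≠ 0 := by
    rw [IsScalarTower.algebraMap_apply R L L']
    exact (map_ne_zero _).mpr (left_ne_zero_of_mul hL)
  obtain ⟨χ⟩ := hext L' hcL
  letI := χ.toRingHom.toAlgebra
  haveI : IsScalarTower R R' L' := IsScalarTower.of_algebraMap_eq fun x => (χ.commutes x).symm
  have hf₄L : algebraMap R' L' f₄ ≠ 0 := by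
    intro h0
    obtain ⟨d, hd⟩ := hdvd
    have := congrArg (algebraMap R' L') hd
    rw [map_mul, h0, zero_mul, ← IsScalarTower.algebraMap_apply, IsScalarTower.algebraMap_apply R L L'] at this
    exact right_ne_zero_of_mul hL ((map_eq_zero _).mp this)
  have hf'L : algebraMap R' L' f' ≠ 0 := fun h0 =>
    hf₄L (eq_zero_of_zero_dvd (h0 ▸ map_dvd _ (hd₃.trans (Dvd.intro _ rfl))))
  haveI := hirr' L' hf'L
  let πL : L' ⊗[R'] (R' ⊗[R] B) →ₐ[L'] L' ⊗[R'] B₂ :=
    Algebra.TensorProduct.map (AlgHom.id L' L') ψ.rangeRestrict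
  haveI : IrreducibleSpace (PrimeSpectrum (L' ⊗[R'] (R' ⊗[R] B))) := by
    refine irreducibleSpace_of_factor (T := L' ⊗[R'] (R' ⊗[R] B)) (T' := L' ⊗[R'] B₂) πL.toRingHom fun Q hQ => ?_
    haveI : IsDomain (_ ⧸ Q) := Ideal.Quotient.isDomain Q
    let Fk := FractionRing ((L' ⊗[R'] (R' ⊗[R] B)) ⧸ Q)
    let φ : L' ⊗[R'] (R' ⊗[R] B) →ₐ[L'] Fk :=
      (IsScalarTower.toAlgHom L' _ Fk).comp (Ideal.Quotient.mkₐ L' Q)
    let φB : R' ⊗[R] B →ₐ[R'] Fk := (φ.restrictScalars R').comp Algebra.TensorProduct.includeRight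
    have hkill : ∀ y, ψ y = 0 → φB y = 0 := by
      intro y hy
      obtain ⟨k, hk⟩ := hG y hy
      have hG0 : ∀ z ∈ G, φB z = 0 := fun z hz => by
        have h1 := congrArg φB ((Algebra.smul_def (rz z hz) (z ^ nz z hz)).symm.trans (hrz' z hz))
        rw [map_mul, AlgHom.commutes, map_zero, map_pow, mul_eq_zero] at h1
        rcases h1 with h1 | h1
        · exfalso
          rw [IsScalarTower.algebraMap_apply R' L' Fk, map_eq_zero] at h1
          refine hf₄L ?_
          rw [map_mul, map_prod, Finset.prod_eq_zero (Finset.mem_univ (⟨z, hz⟩ : G)) h1, mul_zero]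
        · exact pow_eq_zero_iff'.mp h1 |>.1
      have h2 : φB (f₃ ^ k • y) = 0 := by
        have : Submodule.span (R' ⊗[R] B) G ≤ RingHom.ker φB :=
          Ideal.span_le.mpr fun z hz => RingHom.mem_ker.mpr (hG0 z hz)
        exact this hk
      replace h2 : φB (algebraMap R' (R' ⊗[R] B) (f₃ ^ k) * y) = 0 := by
        rw [← Algebra.smul_def]; exact h2
      rw [map_mul, AlgHom.commutes, mul_eq_zero] at h2
      refine h2.resolve_left fun h3 => ?_
      rw [IsScalarTower.algebraMap_apply R' L' Fk, map_eq_zero, map_pow] at h3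
      exact hf₄L (by rw [map_mul, (pow_eq_zero_iff'.mp h3).1, zero_mul])
    have hsurj : Function.Surjective ψ.rangeRestrict := fun z => by
      obtain ⟨y, hy⟩ := z.2; exact ⟨y, Subtype.ext hy⟩
    let φ₂ : B₂ →ₐ[R'] Fk :=
      (Ideal.Quotient.liftₐ (RingHom.ker ψ.rangeRestrict) φB
        fun y hy => hkill y (congrArg Subtype.val hy)).comp
        (Ideal.quotientKerAlgEquivOfSurjective hsurj).symm.toAlgHom
    have hφ₂ : ∀ y, φ₂ (ψ.rangeRestrict y) = φB y := fun y => by
      show (Ideal.Quotient.liftₐ (RingHom.ker ψ.rangeRestrict) φB fun y hy => hkill y (congrArg Subtype.val hy))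
        ((Ideal.quotientKerAlgEquivOfSurjective hsurj).symm (ψ.rangeRestrict y)) = _
      rw [show (Ideal.quotientKerAlgEquivOfSurjective hsurj).symm (ψ.rangeRestrict y) = Ideal.Quotient.mk _ y
        from (AlgEquiv.symm_apply_eq _).mpr rfl]
      rfl
    let Φ₂ : L' ⊗[R'] B₂ →ₐ[L'] Fk :=
      Algebra.TensorProduct.lift (Algebra.ofId L' Fk) φ₂ fun _ _ => Commute.all _ _
    have hΦ : Φ₂.comp πL = φ := by
      refine Algebra.TensorProduct.ext (Subsingleton.elim _ _) (AlgHom.ext fun y => ?_)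
      show Φ₂ (1 ⊗ₜ ψ.rangeRestrict y) = φ (1 ⊗ₜ y)
      rw [Algebra.TensorProduct.lift_tmul, map_one, one_mul, hφ₂]
      rfl
    refine ⟨⟨RingHom.ker Φ₂, RingHom.ker_isPrime _⟩, ?_⟩
    ext z
    show Φ₂ (πL z) = 0 ↔ _
    rw [← AlgHom.comp_apply, hΦ]
    show algebraMap _ Fk (Ideal.Quotient.mk Q z) = 0 ↔ _
    rw [map_eq_zero_iff _ (IsFractionRing.injective _ _), Ideal.Quotient.eq_zero_iff_mem]
  let e := Algebra.TensorProduct.cancelBaseChange R R' L' L' B
  haveI : IrreducibleSpace (PrimeSpectrum (L' ⊗[R] B)) :=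
    irreducibleSpace_of_factor (T := L' ⊗[R] B) (T' := L' ⊗[R'] (R' ⊗[R] B)) e.symm.toAlgHom.toRingHom fun Q hQ =>
      ⟨⟨Q.comap e.toAlgHom.toRingHom, Ideal.IsPrime.comap _⟩, by
        ext z
        show e (e.symm z) ∈ Q ↔ _
        rw [AlgEquiv.apply_symm_apply]⟩
  exact irreducibleSpace_of_factor (T := L ⊗[R] B) (T' := L' ⊗[R] B)
    (Algebra.TensorProduct.map (IsScalarTower.toAlgHom R L L') (AlgHom.id R B)).toRingHom
    fun Q hQ => exists_prime_over_extension Q

end Groth.Agent.GeomSpread
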