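import Mathlib.RingTheory.Jacobson.Ring
import Mathlib.RingTheory.TensorProduct.Finite
import Mathlib.RingTheory.Localization.FractionRing
import Mathlib.FieldTheory.IsAlgClosed.Basic
import Mathlib.RingTheory.MvPolynomial.Basic
import Mathlib.Algebra.MvPolynomial.NoZeroDivisors
import Mathlib.Data.Finsupp.Interval
import Mathlib.RingTheory.Ideal.MinimalPrime.Localization
import Mathlib.Algebra.MvPolynomial.Nilpotent
import Mathlib.RingTheory.FiniteStability
import Mathlib.RingTheory.Spectrum.Prime.Basic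

/-! # Absolute irreducibility of polynomials spreads out

If a polynomial over a domain `R` with a unit non-constant coefficient is irreducible over an algebraically
closed field containing `R`, it is irreducible over every field over `R` where some fixed nonzero element
of `R` stays nonzero.
-/

set_option autoImplicit false

universe u

open MvPolynomial
open scoped TensorProduct

namespace Groth.Agent.GeomSpread

/-- Finite type algebras over a domain with no point in an algebraically closed field are killed by a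
nonzero element of the base. -/
theorem exists_smul_eq_zero_of_isEmpty_points {R : Type u} [CommRing R] [IsDomain R]
    (S : Type u) [CommRing S] [Algebra R S] [Algebra.FiniteType R S]
    (Kb : Type u) [Field Kb] [IsAlgClosed Kb] [Algebra R Kb]
    (hinj : Function.Injective (algebraMap R Kb)) (h : IsEmpty (S →ₐ[R] Kb)) :
    ∃ f : R, f ≠ 0 ∧ algebraMap R S f = 0 := by
  by_contra! hc
  have hRS : Function.Injective (algebraMap R S) := (injective_iff_map_eq_zero _).mpr fun x hx => by
    by_contra hx0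
    exact hc x hx0 hx
  obtain ⟨p, hp, hpc⟩ : ∃ p : Ideal S, p.IsPrime ∧ p.comap (algebraMap R S) = ⊥ :=
    Ideal.exists_comap_eq_of_mem_minimalPrimes_of_injective (f := algebraMap R S) hRS ⊥
      ⟨⟨Ideal.isPrime_bot, le_rfl⟩, fun q _ _ => bot_le⟩
  let K := FractionRing R
  have : IsDomain (S ⧸ p) := Ideal.Quotient.isDomain p
  let E := FractionRing (S ⧸ p)
  let φ : S →+* E := (algebraMap (S ⧸ p) E).comp (Ideal.Quotient.mk p)
  have hφ : Function.Injective (φ.comp (algebraMap R S)) := (injective_iff_map_eq_zero _).mpr fun x hx => by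
    have hx' : Ideal.Quotient.mk p (algebraMap R S x) = 0 := IsFractionRing.injective (S ⧸ p) E (by
      rw [map_zero]; exact hx)
    rw [Ideal.Quotient.eq_zero_iff_mem, ← Ideal.mem_comap, hpc, Ideal.mem_bot] at hx'
    exact hx'
  let κ : K →ₐ[R] E := IsLocalization.liftAlgHom (M := nonZeroDivisors R) (f := Algebra.ofId R E)
    fun y => (map_ne_zero_iff _ hφ).mpr (nonZeroDivisors.ne_zero y.2) |>.isUnit
  let Φ : K ⊗[R] S →ₐ[R] E := Algebra.TensorProduct.lift κ
    ((IsScalarTower.toAlgHom R (S ⧸ p) E).comp (Ideal.Quotient.mkₐ R p)) fun a b => Commute.all _ _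
  haveI : Nontrivial (K ⊗[R] S) := Φ.toRingHom.domain_nontrivial
  obtain ⟨n, hn⟩ := Ideal.exists_maximal (K ⊗[R] S)
  letI : Field ((K ⊗[R] S) ⧸ n) := Ideal.Quotient.field n
  haveI : Algebra.FiniteType K ((K ⊗[R] S) ⧸ n) :=
    Algebra.FiniteType.of_surjective (Ideal.Quotient.mkₐ K n) Ideal.Quotient.mk_surjective
  haveI : Module.Finite K ((K ⊗[R] S) ⧸ n) :=
    finite_of_finite_type_of_isJacobsonRing K ((K ⊗[R] S) ⧸ n)
  let ι : K →ₐ[R] Kb := IsLocalization.liftAlgHom (M := nonZeroDivisors R) (f := Algebra.ofId R Kb)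
    fun y => (map_ne_zero_iff _ hinj).mpr (nonZeroDivisors.ne_zero y.2) |>.isUnit
  letI : Algebra K Kb := ι.toRingHom.toAlgebra
  haveI : IsScalarTower R K Kb := IsScalarTower.of_algebraMap_eq fun r => (ι.commutes r).symm
  let e : ((K ⊗[R] S) ⧸ n) →ₐ[K] Kb := IsAlgClosed.lift
  exact h.false ((e.restrictScalars R).comp
    (((Ideal.Quotient.mkₐ K n).restrictScalars R).comp Algebra.TensorProduct.includeRight))

theorem coeff_eq_zero_of_notMem {L : Type u} [Field L] {σ : Type u} (G : MvPolynomial σ L) {D : ℕ}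
    (hD : G.totalDegree ≤ D) {m : σ →₀ ℕ} (hm : ∃ i, D < m i) : G.coeff m = 0 := by
  by_contra h
  obtain ⟨i, hi⟩ := hm
  have h1 := MvPolynomial.le_totalDegree (MvPolynomial.mem_support_iff.mpr h)
  have h2 : m i ≤ m.sum fun _ e => e := by
    by_cases hz : i ∈ m.support
    · exact Finset.single_le_sum (f := fun j => m j) (fun _ _ => Nat.zero_le _) hz
    · rw [Finsupp.notMem_support_iff.mp hz]; exact Nat.zero_le _
  omega

theorem exists_ne_zero_coeff {L : Type u} [Field L] {σ : Type u} {G : MvPolynomial σ L}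
    (hG : G ≠ 0) (hu : ¬ IsUnit G) : ∃ m : σ →₀ ℕ, m ≠ 0 ∧ G.coeff m ≠ 0 := by
  classical
  by_contra! hc
  have hC : G = C (G.coeff 0) := by
    ext m
    rw [coeff_C]
    split_ifs with h
    · rw [← h]
    · exact hc m (Ne.symm h)
  refine hu ?_
  rw [hC]
  exact (IsUnit.mk0 _ fun h0 => hG (by rw [hC, h0, map_zero])).map C

theorem exists_irreducible {R : Type u} [CommRing R] [IsDomain R] {σ : Type u} [Fintype σ]
    (F : MvPolynomial σ R) {m₀ : σ →₀ ℕ} (hm₀ : m₀ ≠ 0) (hu : IsUnit (F.coeff m₀))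
    (Kb : Type u) [Field Kb] [IsAlgClosed Kb] [Algebra R Kb]
    (hinj : Function.Injective (algebraMap R Kb)) (hF : Irreducible (F.map (algebraMap R Kb))) :
    ∃ f : R, f ≠ 0 ∧ ∀ (L : Type u) [Field L] [Algebra R L], algebraMap R L f ≠ 0 →
      Irreducible (F.map (algebraMap R L)) := by
  classical
  let D := F.totalDegree
  let M : Finset (σ →₀ ℕ) := Finset.Iic (Finsupp.equivFunOnFinite.symm fun _ : σ => D)
  let P := MvPolynomial ((M ⊕ M) ⊕ PUnit.{u + 1}) R
  let G : MvPolynomial σ P := ∑ m : M, monomial (m : σ →₀ ℕ) (X (Sum.inl (Sum.inl m)))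
  let H : MvPolynomial σ P := ∑ m : M, monomial (m : σ →₀ ℕ) (X (Sum.inl (Sum.inr m)))
  let Fc : MvPolynomial σ P := F.map C
  let J : M × M → Ideal P := fun mm => Ideal.span (insert
    (X (Sum.inr PUnit.unit) * (X (Sum.inl (Sum.inl mm.1)) * X (Sum.inl (Sum.inr mm.2))) - 1)
    (Set.range fun m => (G * H - Fc).coeff m))
  have hmap : ∀ {A : Type u} [CommRing A] [Algebra R A] (φ : P →ₐ[R] A),
      Fc.map φ.toRingHom = F.map (algebraMap R A) := fun φ => by
    show (F.map C).map φ.toRingHom = _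
    rw [MvPolynomial.map_map]
    congr 2
    exact RingHom.ext fun r => φ.commutes r
  have hnopt : ∀ mm : M × M, mm.1.1 ≠ 0 → mm.2.1 ≠ 0 → ∃ f : R, f ≠ 0 ∧ algebraMap R (P ⧸ J mm) f = 0 := by
    intro mm h1 h2
    haveI : Algebra.FiniteType R (P ⧸ J mm) :=
      Algebra.FiniteType.of_surjective (Ideal.Quotient.mkₐ R _) Ideal.Quotient.mk_surjective
    refine exists_smul_eq_zero_of_isEmpty_points (P ⧸ J mm) Kb hinj ⟨fun ψ => ?_⟩
    let φ : P →ₐ[R] Kb := ψ.comp (Ideal.Quotient.mkₐ R _)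
    have hzero : ∀ p ∈ J mm, φ p = 0 := fun p hp => by
      show ψ (Ideal.Quotient.mk _ p) = 0
      rw [Ideal.Quotient.eq_zero_iff_mem.mpr hp, map_zero]
    have hGH : G.map φ.toRingHom * H.map φ.toRingHom = F.map (algebraMap R Kb) := by
      rw [← map_mul, ← hmap φ, ← sub_eq_zero, ← map_sub]
      ext m
      rw [coeff_map, coeff_zero]
      exact hzero _ (Ideal.subset_span (Set.mem_insert_of_mem _ ⟨m, rfl⟩))
    have hab := hzero _ (Ideal.subset_span (Set.mem_insert _ _))
    rw [map_sub, map_mul, map_mul, map_one, sub_eq_zero] at hab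
    have hnu : ∀ (Q : MvPolynomial σ P) (m : σ →₀ ℕ), m ≠ 0 → φ (Q.coeff m) ≠ 0 →
        ¬ IsUnit (Q.map φ.toRingHom) := by
      intro Q m hm hne hunit
      rw [MvPolynomial.isUnit_iff_totalDegree_of_isReduced] at hunit
      have h0 := MvPolynomial.totalDegree_eq_zero_iff_eq_C.mp hunit.2
      apply hne
      have := congrArg (coeff m) h0
      rw [coeff_map, coeff_C, if_neg (Ne.symm hm)] at this
      exact this
    have hcoef : ∀ (v : M → (M ⊕ M) ⊕ PUnit.{u + 1}) (a : M),
        (∑ m : M, monomial (m : σ →₀ ℕ) (X (v m) : P)).coeff a.1 = X (v a) := fun v a => by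
      rw [coeff_sum, Finset.sum_eq_single a (fun b _ hb => by
        rw [coeff_monomial, if_neg (fun h => hb (Subtype.ext h))]) (by simp), coeff_monomial, if_pos rfl]
    have ha : φ (G.coeff mm.1.1) ≠ 0 := by
      rw [hcoef (fun m => Sum.inl (Sum.inl m))]
      intro h; rw [h, zero_mul, mul_zero] at hab; exact one_ne_zero hab.symm
    have hb : φ (H.coeff mm.2.1) ≠ 0 := by
      rw [hcoef (fun m => Sum.inl (Sum.inr m))]
      intro h; rw [h, mul_zero, mul_zero] at hab; exact one_ne_zero hab.symm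
    rcases hF.isUnit_or_isUnit hGH.symm with hunit | hunit
    · exact hnu G mm.1.1 h1 ha hunit
    · exact hnu H mm.2.1 h2 hb hunit
  let T : Finset (M × M) := Finset.univ.filter fun mm => mm.1.1 ≠ 0 ∧ mm.2.1 ≠ 0
  choose! fmm hf0 hf using hnopt
  refine ⟨∏ mm ∈ T, fmm mm, Finset.prod_ne_zero_iff.mpr fun mm hmm =>
    hf0 mm (Finset.mem_filter.mp hmm).2.1 (Finset.mem_filter.mp hmm).2.2, fun L _ _ hL => ?_⟩
  let FL := F.map (algebraMap R L)
  have hc₀ : FL.coeff m₀ ≠ 0 := by
    rw [coeff_map]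
    exact (hu.map _).ne_zero
  have hne : FL ≠ 0 := fun h => hc₀ (by rw [h, coeff_zero])
  refine ⟨fun hunit => ?_, fun a b hab => ?_⟩
  · rw [MvPolynomial.isUnit_iff_totalDegree_of_isReduced] at hunit
    apply hc₀
    have h0 : FL = C (FL.coeff 0) := MvPolynomial.totalDegree_eq_zero_iff_eq_C.mp hunit.2
    rw [h0, coeff_C, if_neg (Ne.symm hm₀)]
  by_contra! hnu
  have ha0 : a ≠ 0 := fun h => hne (show FL = 0 by rw [show FL = a * b from hab, h, zero_mul])
  have hb0 : b ≠ 0 := fun h => hne (show FL = 0 by rw [show FL = a * b from hab, h, mul_zero])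
  have hdeg : a.totalDegree + b.totalDegree ≤ D := by
    rw [← MvPolynomial.totalDegree_mul_of_isDomain ha0 hb0, ← show FL = a * b from hab]
    refine Finset.sup_le fun m hm => MvPolynomial.le_totalDegree (p := F) (MvPolynomial.mem_support_iff.mpr ?_)
    intro h
    exact MvPolynomial.mem_support_iff.mp hm (by rw [coeff_map, h, map_zero])
  have hsupp : ∀ Q : MvPolynomial σ L, Q.totalDegree ≤ D → ∀ m, Q.coeff m ≠ 0 → m ∈ M := by
    intro Q hQ m hm
    rw [Finset.mem_Iic]
    intro i
    by_contra hi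
    exact hm (coeff_eq_zero_of_notMem Q hQ ⟨i, not_le.mp hi⟩)
  have haD : a.totalDegree ≤ D := le_trans (Nat.le_add_right _ _) hdeg
  have hbD : b.totalDegree ≤ D := le_trans (Nat.le_add_left _ _) hdeg
  obtain ⟨m1, hm1, ha1⟩ := exists_ne_zero_coeff ha0 hnu.1
  obtain ⟨m2, hm2, hb2⟩ := exists_ne_zero_coeff hb0 hnu.2
  let mm : M × M := (⟨m1, hsupp a haD m1 ha1⟩, ⟨m2, hsupp b hbD m2 hb2⟩)
  let φ : P →ₐ[R] L := MvPolynomial.aeval
    (Sum.elim (Sum.elim (fun m : M => a.coeff m.1) fun m : M => b.coeff m.1)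
      fun _ : PUnit.{u + 1} => (a.coeff m1 * b.coeff m2)⁻¹)
  have hsum : ∀ (v : M → (M ⊕ M) ⊕ PUnit.{u + 1}) (Q : MvPolynomial σ L), Q.totalDegree ≤ D →
      (∀ m : M, φ (X (v m)) = Q.coeff m.1) →
      (∑ m : M, monomial (m : σ →₀ ℕ) (X (v m) : P)).map φ.toRingHom = Q := by
    intro v Q hQ hv
    ext m
    simp only [map_sum, map_monomial, coeff_sum, coeff_monomial]
    by_cases hm : m ∈ M
    · rw [Finset.sum_eq_single ⟨m, hm⟩ (fun b _ hb => if_neg fun h => hb (Subtype.ext h)) (by simp),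
        if_pos rfl]
      exact hv ⟨m, hm⟩
    · rw [Finset.sum_eq_zero (fun b _ => if_neg fun h => hm (by rw [← h]; exact b.2))]
      by_contra h
      exact hm (hsupp Q hQ m (Ne.symm h))
  have hker : J mm ≤ RingHom.ker φ.toRingHom := by
    refine Ideal.span_le.mpr (Set.insert_subset ?_ ?_)
    · show φ _ = 0
      simp only [φ, map_sub, map_mul, map_one, mm]
      erw [aeval_X, aeval_X, aeval_X]
      simp only [Sum.elim_inl, Sum.elim_inr]
      rw [inv_mul_cancel₀ (mul_ne_zero ha1 hb2), sub_self]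
    · rintro _ ⟨m, rfl⟩
      show φ.toRingHom ((G * H - Fc).coeff m) = 0
      rw [← coeff_map, map_sub, map_mul, hsum _ a haD (fun m => by simp only [φ]; erw [aeval_X]; rfl),
        hsum _ b hbD (fun m => by simp only [φ]; erw [aeval_X]; rfl), hmap φ, ← show FL = a * b from hab, sub_self, coeff_zero]
  have hmem : mm ∈ T := Finset.mem_filter.mpr ⟨Finset.mem_univ _, hm1, hm2⟩
  have hkill : algebraMap R L (fmm mm) = 0 := by
    have h1 := hf mm hm1 hm2
    rw [IsScalarTower.algebraMap_apply R P (P ⧸ J mm), Ideal.Quotient.algebraMap_eq,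
      Ideal.Quotient.eq_zero_iff_mem] at h1
    have h2 : φ (algebraMap R P (fmm mm)) = 0 := hker h1
    rwa [AlgHom.commutes] at h2
  refine hL ?_
  rw [map_prod]
  exact Finset.prod_eq_zero hmem hkill

end Groth.Agent.GeomSpread
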