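import Groth.Agent.FlatMisc.GenericFreeLoc
import Mathlib.RingTheory.Flat.FaithfullyFlat.Basic
import Mathlib.LinearAlgebra.TensorProduct.Tower
import Mathlib.RingTheory.Localization.Away.Basic

/-! # Nonzerodivisors stay nonzerodivisors in the fibres over a dense open -/

set_option autoImplicit false

universe u

open scoped TensorProduct

namespace Groth.Agent.GeomSpread

open Groth.Agent.FlatMisc.GenericFree

variable {R : Type u} [CommRing R]

/-- A field over `R` where `f` is nonzero, as an algebra over `R_f`. -/
theorem exists_away_algebra (f : R) (L : Type u) [Field L] [Algebra R L] (hL : algebraMap R L f ≠ 0) :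
    ∃ _ : Algebra (Localization.Away f) L, IsScalarTower R (Localization.Away f) L := by
  let g : Localization.Away f →ₐ[R] L := IsLocalization.liftAlgHom (M := Submonoid.powers f)
    (f := Algebra.ofId R L) (fun y => by
      obtain ⟨_, n, rfl⟩ := y
      show IsUnit (algebraMap R L (f ^ n))
      rw [map_pow]
      exact (IsUnit.mk0 _ hL).pow n)
  letI := g.toRingHom.toAlgebra
  exact ⟨inferInstance, IsScalarTower.of_algebraMap_eq fun r => (g.commutes r).symm⟩

theorem injective_lTensor_of_freeAt {f : R} {M Q : Type u} [AddCommGroup M] [Module R M]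
    [AddCommGroup Q] [Module R Q] (e : M →ₗ[R] M) (he : Function.Injective e) (q : M →ₗ[R] Q)
    (hq : Function.Surjective q) (hex : Function.Exact e q) (hQ : FreeAt f Q)
    (L : Type u) [Field L] [Algebra R L] (hL : algebraMap R L f ≠ 0) :
    Function.Injective (e.lTensor L) := by
  obtain ⟨_, _⟩ := exists_away_algebra f L hL
  let Rf := Localization.Away f
  haveI := hQ.free_tensor
  haveI : Module.Flat R Rf := IsLocalization.flat Rf (Submonoid.powers f)
  let eR : Rf ⊗[R] M →ₗ[Rf] Rf ⊗[R] M := e.baseChange Rf
  let qR : Rf ⊗[R] M →ₗ[Rf] Rf ⊗[R] Q := q.baseChange Rf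
  have he' : Function.Injective eR := Module.Flat.lTensor_preserves_injective_linearMap (M := Rf) e he
  have hex' : Function.Exact eR qR := lTensor_exact Rf hex hq
  obtain ⟨s, hs⟩ := Module.projective_lifting_property qR LinearMap.id (LinearMap.lTensor_surjective _ hq)
  have hrange : ∀ z, z - s (qR z) ∈ LinearMap.range eR := fun z => by
    refine (hex' _).mp ?_
    rw [map_sub, show qR (s (qR z)) = qR z from LinearMap.congr_fun hs (qR z), sub_self]
  let r : Rf ⊗[R] M →ₗ[Rf] Rf ⊗[R] M := (LinearEquiv.ofInjective eR he').symm.toLinearMap.comp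
    (LinearMap.codRestrict _ (LinearMap.id - s.comp qR) hrange)
  have hr : r.comp eR = LinearMap.id := by
    refine LinearMap.ext fun z => ?_
    apply he'
    show eR ((LinearEquiv.ofInjective eR he').symm _) = eR z
    have h := congrArg Subtype.val ((LinearEquiv.ofInjective eR he').apply_symm_apply
      (LinearMap.codRestrict _ (LinearMap.id - s.comp qR) hrange (eR z)))
    rw [LinearEquiv.ofInjective_apply] at h
    refine h.trans ?_
    show eR z - s (qR (eR z)) = eR z
    rw [hex'.apply_apply_eq_zero, map_zero, sub_zero]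
  have hbc : Function.Injective (eR.baseChange L) := by
    refine Function.LeftInverse.injective (g := r.baseChange L) fun z => ?_
    rw [← LinearMap.comp_apply, ← LinearMap.baseChange_comp, hr, LinearMap.baseChange_id, LinearMap.id_apply]
  let c := TensorProduct.AlgebraTensorModule.cancelBaseChange R Rf L L M
  have hc : ∀ z, e.lTensor L (c z) = c (eR.baseChange L z) := by
    intro z
    induction z using TensorProduct.induction_on with
    | zero => simp
    | tmul l y =>
      induction y using TensorProduct.induction_on with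
      | zero => simp
      | tmul a m => simp [c, eR]
      | add a b ha hb => simp only [TensorProduct.tmul_add, map_add, ha, hb]
    | add a b ha hb => simp only [map_add, ha, hb]
  intro a b hab
  obtain ⟨a', rfl⟩ := c.surjective a
  obtain ⟨b', rfl⟩ := c.surjective b
  rw [hc, hc] at hab
  rw [hbc (c.injective hab)]

theorem nontrivial_tensor_of_freeAt {f : R} {M : Type u} [AddCommGroup M] [Module R M]
    (hM : FreeAt f M) {m : M} (hm : ∀ k : ℕ, f ^ k • m ≠ 0)
    (L : Type u) [Field L] [Algebra R L] (hL : algebraMap R L f ≠ 0) :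
    Nontrivial (L ⊗[R] M) := by
  obtain ⟨_, _⟩ := exists_away_algebra f L hL
  let Rf := Localization.Away f
  haveI := hM.free_tensor
  haveI : Nontrivial (Rf ⊗[R] M) := by
    refine ⟨⟨(1 : Rf) ⊗ₜ m, 0, fun h => ?_⟩⟩
    have h' : TensorProduct.mk R Rf M 1 m = 0 := h
    obtain ⟨⟨_, k, rfl⟩, hk⟩ :=
      (IsLocalizedModule.eq_zero_iff (Submonoid.powers f) (TensorProduct.mk R Rf M 1)).mp h'
    exact hm k hk
  haveI : Nontrivial Rf := Module.nontrivial Rf (Rf ⊗[R] M)
  haveI : Nontrivial (L ⊗[Rf] (Rf ⊗[R] M)) := inferInstance
  exact (TensorProduct.AlgebraTensorModule.cancelBaseChange R Rf L L M).symm.toEquiv.nontrivial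

end Groth.Agent.GeomSpread
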